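import Groth.Agent.H12AlgSp.SchemeCover.NormScheme
import Groth.Agent.H12AlgSp.LimitScheme
import Groth.Agent.H12AlgSp.LimitPresSystems
import Groth.Agent.H12AlgSp.LimitPresSpace
import Groth.Agent.H12AlgSp.LimitOpen
import Groth.Agent.H12AlgSp.Approx.Eventually

/-!
# Local factorization through an etale cover descends to a stage of a limit
-/

set_option autoImplicit false
set_option linter.style.haveILetI false
set_option maxHeartbeats 1600000
set_option backward.isDefEq.respectTransparency false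
set_option backward.isDefEq.respectTransparency.types false
universe u

open CategoryTheory CategoryTheory.Limits AlgebraicGeometry Opposite TopologicalSpace
open AlgSp Groth.Agent.H13AlgSp

attribute [local instance] CategoryTheory.isConnected_of_hasTerminal

namespace Groth.Agent.H12AlgSp.SchemeCover

variable {S : Scheme.{u}} [QuasiSeparatedSpace S] {I : Type u} [SmallCategory I] [IsCofiltered I] {D : I ⥤ Sp S}

/-- A morphism from a quasi-compact open of the limit lifts to the open of a stage. -/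
theorem exists_lift_open_stage (hD : ∀ i, IsAlgSpace (D.obj i))
    (hDa : ∀ (i j : I) (φ : i ⟶ j), IsAffineMor (D.map φ)) {c : Cone D} (hc : IsLimit c)
    (hqs : ∀ i, IsQuasiSeparatedSp (D.obj i)) {m : I} {W : Sp S} {j : W ⟶ D.obj m}
    (hj : RepWith @IsOpenImmersion j) (hW : IsQuasiCompactSp W) {P X : Sp S} (hP : IsAlgSpace P) (hX : IsAlgSpace X)
    {p : P ⟶ X} (hp : LocP @LocallyOfFinitePresentation p) (t : D.obj m ⟶ X)
    (x : pullback (c.π.app m) j ⟶ P) (hx : x ≫ p = pullback.fst (c.π.app m) j ≫ c.π.app m ≫ t) :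
    ∃ (l : Over m) (k : pullback (D.map l.hom) j ⟶ P),
      k ≫ p = pullback.fst (D.map l.hom) j ≫ D.map l.hom ≫ t := by
  let E : Over m ⥤ Sp S :=
    { obj := fun l => pullback (D.map l.hom) j
      map := fun {l l'} φ => pullback.map _ _ _ _ (D.map φ.left) (𝟙 _) (𝟙 _)
        (by rw [Category.comp_id, ← D.map_comp, Over.w φ]) (by simp)
      map_id := fun l => by apply pullback.hom_ext <;> simp
      map_comp := fun φ ψ => by apply pullback.hom_ext <;> simp }
  let α : E ⟶ Over.forget m ⋙ D :=
    { app := fun l => pullback.fst _ _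
      naturality := fun l l' φ => pullback.lift_fst _ _ _ }
  have hmap : ∀ {l l' : Over m} (φ : l ⟶ l'), IsPullback (E.map φ) (α.app l) (α.app l') (D.map φ.left) := fun {l l'} φ => by
    refine IsPullback.of_right (h₁₂ := pullback.snd (D.map l'.hom) j) (v₁₃ := j) (h₂₂ := D.map l'.hom) ?_
      (α.naturality φ) (IsPullback.of_hasPullback _ _).flip
    rw [show E.map φ ≫ pullback.snd (D.map l'.hom) j = pullback.snd (D.map l.hom) j from
      (pullback.lift_snd _ _ _).trans (Category.comp_id _), ← D.map_comp, Over.w φ]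
    exact (IsPullback.of_hasPullback _ _).flip
  let cE : Cone E :=
    { pt := pullback (c.π.app m) j
      π := { app := fun l => pullback.map _ _ _ _ (c.π.app l.left) (𝟙 _) (𝟙 _)
               (by rw [Category.comp_id, c.w]) (by simp)
             naturality := fun l l' φ => by apply pullback.hom_ext <;> simp [E] } }
  have hcE : ∀ l : Over m, IsPullback (cE.π.app l) (pullback.fst (c.π.app m) j) (α.app l)
      ((c.whisker (Over.forget m)).π.app l) := fun l => by
    refine IsPullback.of_right (h₁₂ := pullback.snd (D.map l.hom) j) (v₁₃ := j) (h₂₂ := D.map l.hom) ?_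
      (pullback.lift_fst _ _ _) (IsPullback.of_hasPullback _ _).flip
    rw [show cE.π.app l ≫ pullback.snd (D.map l.hom) j = pullback.snd (c.π.app m) j from
      (pullback.lift_snd _ _ _).trans (Category.comp_id _)]
    change IsPullback _ _ _ (c.π.app l.left ≫ D.map l.hom)
    rw [c.w]
    exact (IsPullback.of_hasPullback _ _).flip
  have hlim : IsLimit cE := isLimitOfIsPullbackOfIsConnected α cE (c.whisker (Over.forget m))
    { hom := pullback.fst _ _, w := fun l => (hcE l).w.symm } hcE
    ((Functor.Initial.isLimitWhiskerEquiv (Over.forget m) c).symm hc)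
  have hWa : IsAlgSpace W := isAlgSpace_of_representable _ hj.1 (hD m)
  have hEa : ∀ l, IsAlgSpace (E.obj l) := fun l => isAlgSpace_pullback (hD m).diag (hD _) hWa _ _
  have hEc : ∀ l, IsQuasiCompactSp (E.obj l) := fun l =>
    Approx.isQuasiCompactSp_of_mor (H12AlgSp.isQuasiCompactMor_of_isPullback (IsPullback.of_hasPullback (D.map l.hom) j)
      (isQuasiCompactMor_of_repWith (hD _) (hD m)
        (repWith_le (fun _ _ k (_ : IsAffineHom k) => inferInstanceAs (QuasiCompact k))
          (isAffineMor_iff.1 (hDa _ _ l.hom))))) hWa hW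
  have hEs : ∀ l, IsQuasiSeparatedSp (E.obj l) := fun l => by
    have := mono_of_openImmersion (repWith_of_isPullback (IsPullback.of_hasPullback (D.map l.hom) j).flip hj)
    exact isQuasiSeparatedSp_of_mono (hqs l.left) (pullback.fst (D.map l.hom) j)
  obtain ⟨l, φ, k, hk, -⟩ := exists_lift_stage_of_relLP (c := cE) (relLP_of_locP_lfp hP hX hp) hEa
    (fun l l' φ => isAffineMor_iff.2 (repWith_of_isPullback (hmap φ).flip (isAffineMor_iff.1 (hDa _ _ φ.left))))
    hlim hEc hEs (Over.mk (𝟙 m)) x (α.app (Over.mk (𝟙 m)) ≫ t) (by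
      rw [hx, reassoc_of% ((hcE (Over.mk (𝟙 m))).w)]
      rfl)
  refine ⟨l, k, ?_⟩
  rw [hk, reassoc_of% (α.naturality φ)]
  have : φ.left = l.hom := by simpa using Over.w φ
  simp [α, this]

/-- A scheme limit, locally factoring through an etale cover, has scheme stages which do so. -/
theorem exists_stage_factors (hD : ∀ i, IsAlgSpace (D.obj i))
    (hDa : ∀ (i j : I) (φ : i ⟶ j), IsAffineMor (D.map φ)) {c : Cone D} (hc : IsLimit c)
    (hqc : ∀ i, IsQuasiCompactSp (D.obj i)) (hqs : ∀ i, IsQuasiSeparatedSp (D.obj i)) {Y : Over S}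
    (e : (yon S).obj Y ≅ c.pt) {X : Sp S} (hX : IsAlgSpace X) {U : Over S} {p : (yon S).obj U ⟶ X}
    (hp : LocP @LocallyOfFinitePresentation p) (t : D ⟶ (Functor.const I).obj X) {g : c.pt ⟶ X}
    (hg : ∀ i, c.π.app i ≫ t.app i = g) (hF : Factors p (e.hom ≫ g)) :
    ∃ (i : I) (W : Over S) (eW : (yon S).obj W ≅ D.obj i), Factors p (eW.hom ≫ t.app i) := by
  classical
  obtain ⟨i₁, hi₁⟩ := exists_scheme_of_scheme_limit hD hDa hc hqc hqs e
  obtain ⟨A⟩ := exists_atlasSystem_of_qc hDa hc hD i₁ (hqc i₁)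
  haveI : CompactSpace (Points c.pt) :=
    (surjective_ofPt_of_repWith le_rfl A.surjectiveLim).compactSpace (Points.continuous_ofPt A.aLim)
  -- affine opens of the limit with factorizations
  let κ := {B : Y.left.affineOpens // ∃ k : openOver Y B.1 ⟶ U,
    (yon S).map k ≫ p = (yon S).map (openIncl Y B.1) ≫ e.hom ≫ g}
  let tB : ∀ B : κ, (yon S).obj (openOver Y B.1.1) ⟶ c.pt := fun B => (yon S).map (openIncl Y B.1.1) ≫ e.hom
  have htB : ∀ B, RepWith @IsOpenImmersion (tB B) := fun B => MorphismProperty.RespectsIso.postcomp _ _ _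
    ((repWith_yon_map_iff @IsOpenImmersion _).2 (inferInstanceAs (IsOpenImmersion B.1.1.ι)))
  obtain ⟨s, hs⟩ := isCompact_univ.elim_finite_subcover (fun B => Set.range (Points.map (tB B)))
    (fun B => (isOpenMap_map_of_repWith (fun _ _ k (_ : IsOpenImmersion k) => inferInstance) (htB B)).isOpen_range)
    (fun x _ => by
      obtain ⟨z, hz⟩ := (Points.schemeEquiv Y).surjective (Points.map e.inv x)
      obtain ⟨V, hzV, k, hk⟩ := hF z
      obtain ⟨B, hB, hzB, hBV⟩ := exists_isAffineOpen_mem_and_subset (x := z) (U := V) hzV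
      let r : openOver Y B ⟶ Over.mk (V.ι ≫ Y.hom) := Over.homMk (Y.left.homOfLE hBV) (by
        change Y.left.homOfLE hBV ≫ V.ι ≫ Y.hom = B.ι ≫ Y.hom
        rw [← Category.assoc, Scheme.homOfLE_ι])
      refine Set.mem_iUnion.2 ⟨⟨⟨B, hB⟩, r ≫ k, ?_⟩, Points.ofScheme _ ⟨z, hzB⟩, ?_⟩
      · rw [Functor.map_comp, Category.assoc, hk, ← Category.assoc, ← Functor.map_comp]
        congr 2
        exact Over.OverMorphism.ext (Scheme.homOfLE_ι _ hBV)
      · rw [Points.map_comp]
        refine (congrArg (Points.map e.hom) (Points.map_yon_map_apply _ _)).trans ?_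
        change Points.map e.hom (Points.schemeEquiv Y z) = x
        rw [hz, ← Points.map_comp, e.inv_hom_id, Points.map_id])
  have hcomp : ∀ B : κ, IsCompact (Set.range (Points.map (tB B))) := fun B => by
    have : IsAffine (openOver Y B.1.1).left := B.1.2
    haveI := compactSpace_points_of_isQuasiCompactSp
      ((isQuasiCompactSp_yon_iff (T := openOver Y B.1.1)).2 inferInstance)
    exact isCompact_range (Points.continuous_map _)
  -- each piece at a stage
  have key : ∀ B : κ, ∃ (m : I) (W : Sp S) (j : W ⟶ D.obj m), RepWith @IsOpenImmersion j ∧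
      Points.map (c.π.app m) ⁻¹' Set.range (Points.map j) = Set.range (Points.map (tB B)) ∧
      ∃ k : W ⟶ (yon S).obj U, k ≫ p = j ≫ t.app m := by
    intro B
    obtain ⟨m, O, hO, hOc, hpre⟩ := exists_compact_open_stage hD hDa hc
      (isOpenMap_map_of_repWith (fun _ _ k (_ : IsOpenImmersion k) => inferInstance) (htB B)).isOpen_range (hcomp B)
    obtain ⟨W, ι, hW, hι, hr⟩ := exists_open_subspace (hD m) hO
    have hWc : IsQuasiCompactSp W := isQuasiCompactSp_of_openImmersion (hD m) hι (hr ▸ hOc)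
    have hfst : RepWith @IsOpenImmersion (pullback.fst (c.π.app m) ι) :=
      repWith_of_isPullback (IsPullback.of_hasPullback (c.π.app m) ι).flip hι
    obtain ⟨ε, hε⟩ := exists_iso_of_range_eq hfst (htB B) (by
      rw [range_snd_of_isPullback (IsPullback.of_hasPullback (c.π.app m) ι).flip, hr, hpre])
    obtain ⟨k₀, hk₀⟩ := B.2
    obtain ⟨l, k, hk⟩ := exists_lift_open_stage hD hDa hc hqs hι hWc (IsAlgSpace.yon_obj U) hX hp (t.app m)
      (ε.hom ≫ (yon S).map k₀) (by
        rw [Category.assoc, hk₀, ← reassoc_of% hε, hg]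
        simp [tB])
    refine ⟨l.left, _, pullback.fst (D.map l.hom) ι,
      repWith_of_isPullback (IsPullback.of_hasPullback (D.map l.hom) ι).flip hι, ?_, k, ?_⟩
    · rw [range_snd_of_isPullback (IsPullback.of_hasPullback (D.map l.hom) ι).flip, hr, ← hpre, ← Set.preimage_comp]
      congr 1
      funext x
      rw [Function.comp_apply, ← Points.map_comp, c.w]
    · rw [hk]
      exact congrArg (pullback.fst (D.map l.hom) ι ≫ ·) ((t.naturality l.hom).trans (Category.comp_id _))
  choose m W j hj hjr k hk using key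
  obtain ⟨i₂, hi₂⟩ := IsCofiltered.inf_objs_exists (insert i₁ (s.image m))
  let a : ∀ {B}, B ∈ s → (i₂ ⟶ m B) := fun hB =>
    (hi₂ (Finset.mem_insert_of_mem (Finset.mem_image_of_mem m hB))).some
  let O : Set (Points (D.obj i₂)) := ⋃ B : {B // B ∈ s}, Points.map (D.map (a B.2)) ⁻¹' Set.range (Points.map (j B.1))
  have hO : IsOpen O := isOpen_iUnion fun B =>
    ((isOpenMap_map_of_repWith (fun _ _ k (_ : IsOpenImmersion k) => inferInstance) (hj B.1)).isOpen_range).preimage
      (Points.continuous_map _)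
  obtain ⟨l, hl⟩ := exists_stage_univ hD hDa hc (hqc i₂) hO (Set.eq_univ_of_forall fun x => by
    obtain ⟨B, hB, hx⟩ := Set.mem_iUnion₂.1 (hs (Set.mem_univ x))
    refine Set.mem_iUnion.2 ⟨⟨B, hB⟩, ?_⟩
    rw [Set.mem_preimage]
    rw [← Points.map_comp, c.w]
    exact (hjr B).ge hx)
  obtain ⟨Z, ⟨eZ⟩⟩ := hi₁ l.left (l.hom ≫ (hi₂ (Finset.mem_insert_self _ _)).some)
  refine ⟨l.left, Z, eZ, fun z => ?_⟩
  obtain ⟨B, hB⟩ := Set.mem_iUnion.1 (hl.ge (Set.mem_univ (Points.map eZ.hom (Points.schemeEquiv Z z))))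
  let d : (yon S).obj Z ⟶ D.obj (m B.1) := eZ.hom ≫ D.map (l.hom ≫ a B.2)
  obtain ⟨R, r, fst, sq⟩ := (hj B.1).1 d
  haveI hr : IsOpenImmersion r.left := (hj B.1).property d fst r sq
  have hzr : z ∈ Set.range r.left := by
    have hzd : Points.map d (Points.schemeEquiv Z z) ∈ Set.range (Points.map (j B.1)) := by
      simp only [d, Functor.map_comp, Points.map_comp]
      exact hB
    obtain ⟨w, hw⟩ := hzd
    obtain ⟨q, -, hq⟩ := exists_point_of_isPullback sq w _ hw
    obtain ⟨v, rfl⟩ := (Points.schemeEquiv R).surjective q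
    exact ⟨v, (Points.schemeEquiv Z).injective ((Points.map_yon_map_apply r v).symm.trans hq)⟩
  let lV : Over.mk (r.left.opensRange.ι ≫ Z.hom) ⟶ R :=
    Over.homMk (r.left.isoOpensRange.inv) (by
      change r.left.isoOpensRange.inv ≫ R.hom = r.left.opensRange.ι ≫ Z.hom
      rw [← Over.w r, ← Category.assoc, Scheme.Hom.isoOpensRange_inv_comp])
  obtain ⟨k', hk'⟩ := (yon S).map_surjective ((yon S).map lV ≫ fst ≫ k B.1)
  refine ⟨r.left.opensRange, hzr, k', ?_⟩
  rw [hk', Category.assoc, Category.assoc, hk, reassoc_of% sq.w, ← Category.assoc ((yon S).map lV),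
    ← Functor.map_comp, show lV ≫ r = Over.homMk r.left.opensRange.ι from
      Over.OverMorphism.ext (Scheme.Hom.isoOpensRange_inv_comp _)]
  simp only [d, Category.assoc]
  refine congrArg (fun q => _ ≫ eZ.hom ≫ q) ?_
  exact (t.naturality (l.hom ≫ a B.2)).trans (Category.comp_id _)

end Groth.Agent.H12AlgSp.SchemeCover
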