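import Groth.Agent.H12AlgSp.SchemeCover.Reduction
import Groth.Agent.H12AlgSp.SchemeCover.StageFactors
import Groth.Agent.H12AlgSp.Approx.IntegralLimitOpen
import Groth.Agent.H13AlgSp.DecentDense

/-!
# Finite covers by schemes, etale over a dense open
-/

set_option autoImplicit false
set_option linter.style.haveILetI false
set_option maxHeartbeats 1600000
set_option backward.isDefEq.respectTransparency false
set_option backward.isDefEq.respectTransparency.types false
universe u

open CategoryTheory CategoryTheory.Limits AlgebraicGeometry Opposite TopologicalSpace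
open AlgSp Groth.Agent.H13AlgSp

namespace Groth.Agent.H12AlgSp.SchemeCover

variable {S : Scheme.{u}}

/-- A dense open of a scheme openly and densely mapped to a space with finitely many irreducible components
contains a quasi-compact open with dense image. -/
theorem exists_compact_dense {α : Type*} [TopologicalSpace α] (hirr : (irreducibleComponents α).Finite)
    {M : Scheme.{u}} {ψ : M → α} (hψc : Continuous ψ) (hψo : IsOpenMap ψ) (W : M.Opens)
    (hW : Dense (ψ '' (W : Set M))) :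
    ∃ O : M.Opens, IsCompact (O : Set M) ∧ O ≤ W ∧ Dense (ψ '' (O : Set M)) := by
  classical
  haveI : Finite (irreducibleComponents α) := hirr.to_subtype
  have key : ∀ Z : irreducibleComponents α, ∃ A : M.Opens, IsCompact (A : Set M) ∧ A ≤ W ∧
      (Z : Set α) ⊆ closure (ψ '' (A : Set M)) := by
    rintro ⟨Z, hZ⟩
    let others : Set α := ⋃ Z' ∈ irreducibleComponents α \ {Z}, Z'
    have hcl : IsClosed others :=
      (hirr.diff).isClosed_biUnion fun Z' hZ' => isClosed_of_mem_irreducibleComponents Z' hZ'.1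
    have hnot : ¬ Z ⊆ others := fun h => by
      obtain ⟨Z', hZ', hsub⟩ := isIrreducible_iff_sUnion_isClosed.1 hZ.1 (hirr.diff.toFinset (s := irreducibleComponents α \ {Z}))
        (fun z hz => isClosed_of_mem_irreducibleComponents z ((Set.Finite.mem_toFinset _).1 hz).1)
        (by simpa [others, Set.sUnion_eq_biUnion] using h)
      obtain ⟨hZ'₁, hZ'₂⟩ := (Set.Finite.mem_toFinset _).1 hZ'
      exact hZ'₂ (Set.Subset.antisymm (hZ.2 hZ'₁.1 hsub) hsub)
    have hin : othersᶜ ⊆ Z := fun x hx => by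
      by_contra hxZ
      exact hx (Set.mem_iUnion₂.2 ⟨irreducibleComponent x, ⟨irreducibleComponent_mem_irreducibleComponents x,
        fun h => hxZ (h ▸ mem_irreducibleComponent)⟩, mem_irreducibleComponent⟩)
    obtain ⟨z, -, hz⟩ := Set.not_subset.1 hnot
    obtain ⟨x, hx, w, hwW, rfl⟩ := hW.inter_open_nonempty othersᶜ hcl.isOpen_compl ⟨z, hz⟩
    obtain ⟨A, hA, hwA, hAsub⟩ := exists_isAffineOpen_mem_and_subset (x := w)
      (U := W ⊓ ⟨ψ ⁻¹' othersᶜ, hcl.isOpen_compl.preimage hψc⟩) ⟨hwW, hx⟩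
    refine ⟨A, hA.isCompact, fun y hy => (hAsub hy).1, ?_⟩
    have hsubZ : ψ '' (A : Set M) ⊆ Z := by
      rintro _ ⟨y, hy, rfl⟩
      exact hin (hAsub hy).2
    intro y hy
    rw [mem_closure_iff]
    intro V hV hyV
    obtain ⟨t, ht, ht'⟩ := hZ.1.isPreirreducible V (ψ '' (A : Set M)) hV (hψo _ A.2) ⟨y, hy, hyV⟩
      ⟨ψ w, hsubZ ⟨w, hwA, rfl⟩, w, hwA, rfl⟩
    exact ⟨t, ht'.1, ht'.2⟩
  choose A hAc hAW hAd using key
  refine ⟨⨆ Z, A Z, by simpa using isCompact_iUnion hAc, iSup_le hAW, fun x => ?_⟩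
  refine closure_mono (Set.image_mono ?_)
    (hAd ⟨_, irreducibleComponent_mem_irreducibleComponents x⟩ mem_irreducibleComponent)
  exact SetLike.coe_subset_coe.2 (le_iSup A _)

/-- A relative normalization of a morphism finite over an open subspace is, over that subspace, its source. -/
theorem isPullback_of_finite_over_open {X : Sp S} (hX : IsAlgSpace X) {P W G : Over S} {jV : (yon S).obj W ⟶ X}
    (hjV : RepWith @IsOpenImmersion jV) (k : P ⟶ W) [IsFinite k.left] {f : (yon S).obj P ⟶ X}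
    (hf : f = (yon S).map k ≫ jV) (hfqc : IsQuasiCompactMor f) (hfqs : IsQuasiSeparatedMor f)
    {g : (yon S).obj G ⟶ X} {g' : (yon S).obj P ⟶ (yon S).obj G} (hn : IsRelNormalization f g g') :
    IsPullback g' ((yon S).map k) g jV := by
  have hjm : Mono jV := mono_of_openImmersion hjV
  have sqf : IsPullback (𝟙 ((yon S).obj P)) ((yon S).map k) f jV := by
    refine ⟨⟨by rw [Category.id_comp, hf]⟩, ⟨PullbackCone.isLimitAux' _ fun s => ⟨s.fst, Category.comp_id _, ?_,
      fun {m'} hm₁ _ => (Category.comp_id m').symm.trans hm₁⟩⟩⟩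
    rw [← cancel_mono jV]
    subst hf
    exact (Category.assoc _ _ _).trans s.condition
  have hW : IsAlgSpace ((yon S).obj W) := IsAlgSpace.yon_obj W
  have hG : IsAlgSpace ((yon S).obj G) := IsAlgSpace.yon_obj G
  have hQ : IsAlgSpace (pullback g jV) := isAlgSpace_pullback hX.diag hG hW g jV
  have sqG : IsPullback (pullback.fst g jV) (pullback.snd g jV) g jV := IsPullback.of_hasPullback g jV
  have hwG : g' ≫ g = (yon S).map k ≫ jV := hn.1.trans hf
  obtain ⟨mG, hmG₁, hmG₂⟩ : ∃ mG : (yon S).obj P ⟶ pullback g jV,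
      mG ≫ pullback.fst g jV = g' ∧ mG ≫ pullback.snd g jV = (yon S).map k :=
    ⟨sqG.lift g' ((yon S).map k) hwG, sqG.lift_fst _ _ _, sqG.lift_snd _ _ _⟩
  have hfull := NormSp.fullAt_of_isRelNormalization (IsAlgSpace.yon_obj P) hX hG hfqc hfqs hn hW jV
    (locP_of_repWith etLocal_smooth
      (repWith_le (fun _ _ k (_ : IsOpenImmersion k) => inferInstanceAs (Smooth k)) hjV))
  have hnV : IsRelNormalization ((yon S).map k) (pullback.snd g jV) mG :=
    hfull (𝟙 _) ((yon S).map k) (pullback.fst g jV) (pullback.snd g jV) mG sqf sqG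
      (by rw [hmG₁, Category.id_comp]) hmG₂
  have hself : IsRelNormalization ((yon S).map k) ((yon S).map k) (𝟙 _) :=
    ⟨Category.id_comp _, isFiniteMor_isIntegralMor (isFiniteMor_iff.2 ((repWith_yon_map_iff _ _).2 inferInstance)),
      fun Z _ π l _ hl => ⟨l, ⟨Category.id_comp _, hl⟩, fun l' hl' => (Category.id_comp l').symm.trans hl'.1⟩⟩
  obtain ⟨ε, hε₁, hε₂⟩ := NormSp.exists_iso_of_isRelNormalization hQ (IsAlgSpace.yon_obj P) hnV hself
  have hεm : ε.inv = mG := by rw [← Category.comp_id mG, ← ε.hom_inv_id, reassoc_of% hε₁]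
  exact IsPullback.of_iso sqG ε (Iso.refl _) (Iso.refl _) (Iso.refl _)
    (by rw [Iso.refl_hom, Category.comp_id, ← Iso.inv_comp_eq, hεm, hmG₁])
    (by rw [Iso.refl_hom, Category.comp_id]; exact hε₂.symm) (by simp) (by simp)

/-- The points of an open subscheme in a space, through a morphism from the scheme. -/
theorem range_map_openIncl {X : Sp S} {M : Over S} (mX : (yon S).obj M ⟶ X) (O : M.left.Opens) :
    Set.range (Points.map ((yon S).map (openIncl M O) ≫ mX)) =
      (fun v : M.left => Points.map mX (Points.schemeEquiv M v)) '' (O : Set M.left) := by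
  have key : ∀ v : (openOver M O).left, Points.map ((yon S).map (openIncl M O) ≫ mX)
      (Points.schemeEquiv (openOver M O) v) = Points.map mX (Points.schemeEquiv M ((openIncl M O).left v)) := by
    intro v
    rw [Points.map_comp]
    exact congrArg (Points.map mX) (Points.map_yon_map_apply (openIncl M O) v)
  refine Set.Subset.antisymm ?_ ?_
  · rintro _ ⟨x, rfl⟩
    obtain ⟨v, rfl⟩ := (Points.schemeEquiv (openOver M O)).surjective x
    rw [key]
    exact ⟨_, v.2, rfl⟩
  · rintro _ ⟨v, hv, rfl⟩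
    exact ⟨Points.schemeEquiv (openOver M O) ⟨v, hv⟩, key ⟨v, hv⟩⟩

/-- An integral cover by a scheme, finite etale over a quasi-compact dense open. -/
theorem exists_integral_cover [QuasiSeparatedSpace S] {X : Sp S} (hX : IsAlgSpace X)
    (hXs : IsQuasiSeparatedSp X) (hirr : (irreducibleComponents (Points X)).Finite) {U : Over S} [IsAffine U.left]
    (p : (yon S).obj U ⟶ X) (hpe : RepWith @Etale p) (hps : RepWith @Surjective p) :
    ∃ (G : Over S) (g : (yon S).obj G ⟶ X) (V : Over S) (j : (yon S).obj V ⟶ X) (PV : Over S)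
      (pv₁ : (yon S).obj PV ⟶ (yon S).obj G) (pv₂ : PV ⟶ V),
      IsIntegralMor g ∧ IsSurjectiveMor g ∧ Factors p g ∧ RepWith @IsOpenImmersion j ∧
      IsQuasiCompactSp ((yon S).obj V) ∧ Dense (Set.range (Points.map j)) ∧
      IsPullback pv₁ ((yon S).map pv₂) g j ∧ IsFinite pv₂.left ∧ Etale pv₂.left := by
  have hXd : IsDecent X := isDecent_of_isQuasiSeparatedSp hX hXs
  have hUc : IsQuasiCompactSp ((yon S).obj U) := isQuasiCompactSp_yon_iff.2 inferInstance
  have hpqc : IsQuasiCompactMor p := isQuasiCompactMor_of_qc_qs (IsAlgSpace.yon_obj U) hX p hUc hXs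
  have hpsep : RepWith @IsSeparated p := repWith_isSeparated_of_isSeparatedMor hpe.1
    (AbsInt.isSeparatedMor_of_isSeparatedSp p isSeparatedSp_yon_affine)
  obtain ⟨X', j, hj, hX'r, hjd⟩ := exists_dense_open_subscheme ⟨X, hX⟩ hXd
  obtain ⟨M, ⟨eM⟩⟩ : ∃ M : Over S, Nonempty ((yon S).obj M ≅ X'.obj) :=
    ⟨hX'r.has_representation.choose, ⟨isoOfRepresentableBy hX'r.has_representation.choose_spec.some⟩⟩
  let mX : (yon S).obj M ⟶ X := eM.hom ≫ j.hom
  have hmX : RepWith @IsOpenImmersion mX := MorphismProperty.RespectsIso.precomp (RepWith @IsOpenImmersion) _ _ hj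
  let ψ : M.left → Points X := fun v => Points.map mX (Points.schemeEquiv M v)
  have hψc : Continuous ψ := (Points.continuous_map _).comp (Points.schemeHomeo M).continuous
  have hψo : IsOpenMap ψ := (isOpenMap_map_of_repWith (fun _ _ k (_ : IsOpenImmersion k) => inferInstance) hmX).comp
    (Points.schemeHomeo M).isOpenMap
  have hψd : DenseRange ψ := by
    have : Set.range ψ = Set.range (Points.map j.hom) := by
      refine Set.Subset.antisymm ?_ ?_
      · rintro _ ⟨x, rfl⟩
        exact ⟨Points.map eM.hom (Points.schemeEquiv M x), (Points.map_comp _ _ _).symm⟩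
      · rintro _ ⟨x, rfl⟩
        obtain ⟨v, hv⟩ := (Points.schemeEquiv M).surjective (Points.map eM.inv x)
        exact ⟨v, by simp only [ψ, hv, mX]; rw [← Points.map_comp, Iso.inv_hom_id_assoc]⟩
    rw [DenseRange, this]
    exact hjd
  obtain ⟨E, eU, eM', sqE⟩ := hpe.1 mX
  obtain ⟨eU', rfl⟩ := (yon S).map_surjective eM'
  haveI : Etale eU.left := hpe.property mX _ eU sqE
  haveI : IsSeparated eU.left := hpsep.property mX _ eU sqE
  haveI : QuasiCompact eU.left := quasiCompact_of_isPullback hpqc sqE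
  obtain ⟨M₁, hM₁d, hM₁f⟩ := Groth.Agent.H7Flat.exists_dense_isFinite eU.left
  obtain ⟨O₁, hO₁c, hO₁le, hO₁d⟩ := exists_compact_dense hirr hψc hψo M₁
    (hψd.dense_image hψc hM₁d)
  obtain ⟨P₀, hP₀a, h, hhe, hh₁, hsplit⟩ := exists_split eU.left O₁ hO₁c
    (Groth.Agent.H13AlgSp.DenseFinite.isFinite_restrict_le eU.left hO₁le hM₁f)
  haveI := hP₀a
  haveI : IsSeparated h := inferInstance
  haveI : QuasiSeparatedSpace M.left := by
    haveI := mono_of_openImmersion hmX
    have hM : IsQuasiSeparatedSp ((yon S).obj M) := isQuasiSeparatedSp_of_mono hXs mX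
    haveI : QuasiSeparated M.hom := ⟨(repWith_diag_yon_iff @QuasiCompact M).1 hM⟩
    exact quasiSeparatedSpace_of_quasiSeparated M.hom
  haveI : QuasiCompact h := inferInstance
  obtain ⟨M₂, hM₂d, hM₂f⟩ := Groth.Agent.H7Flat.exists_dense_isFinite h
  obtain ⟨O, hOc, hOle, hOd⟩ := exists_compact_dense hirr hψc hψo (O₁ ⊓ M₂) (by
    intro x
    rw [mem_closure_iff]
    intro N hN hxN
    obtain ⟨_, hy, v, hv, rfl⟩ := hO₁d.inter_open_nonempty N hN ⟨x, hxN⟩
    obtain ⟨w, ⟨hw₁, hw₂⟩, hw⟩ := hM₂d.inter_open_nonempty ((O₁ : Set M.left) ∩ ψ ⁻¹' N)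
      (O₁.2.inter (hN.preimage hψc)) ⟨v, hv, hy⟩
    exact ⟨ψ w, hw₂, w, ⟨hw₁, hw⟩, rfl⟩)
  haveI : CompactSpace (openOver M O).left := isCompact_iff_compactSpace.1 hOc
  -- the restricted source
  let P : Over S := Over.mk ((h ⁻¹ᵁ O).ι ≫ h ≫ M.hom)
  let hO : P ⟶ openOver M O := Over.homMk (h ∣_ O) (by
    change (h ∣_ O) ≫ O.ι ≫ M.hom = (h ⁻¹ᵁ O).ι ≫ h ≫ M.hom
    rw [morphismRestrict_ι_assoc])
  let hP : P ⟶ M := hO ≫ openIncl M O
  haveI hOf : IsFinite hO.left :=
    Groth.Agent.H13AlgSp.DenseFinite.isFinite_restrict_le h (hOle.trans inf_le_right) hM₂f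
  haveI hOe : Etale hO.left := inferInstanceAs (Etale (h ∣_ O))
  let jV : (yon S).obj (openOver M O) ⟶ X := (yon S).map (openIncl M O) ≫ mX
  have hjV : RepWith @IsOpenImmersion jV :=
    repWith_comp ((repWith_yon_map_iff _ _).2 (inferInstanceAs (IsOpenImmersion O.ι))) hmX
  have hVc : IsQuasiCompactSp ((yon S).obj (openOver M O)) := isQuasiCompactSp_yon_iff.2 inferInstance
  let f : (yon S).obj P ⟶ X := (yon S).map hO ≫ jV
  haveI : CompactSpace P.left := QuasiCompact.compactSpace_of_compactSpace hO.left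
  have hPc : IsQuasiCompactSp ((yon S).obj P) := isQuasiCompactSp_yon_iff.2 inferInstance
  have hfqc : IsQuasiCompactMor f := isQuasiCompactMor_of_qc_qs (IsAlgSpace.yon_obj P) hX f hPc hXs
  haveI : QuasiSeparatedSpace P.left := quasiSeparatedSpace_of_quasiSeparated (h ⁻¹ᵁ O).ι
  have hfqs : IsQuasiSeparatedMor f := Approx.isQuasiSeparatedMor_of_isQuasiSeparatedSp f
    (isQuasiSeparatedSp_yon inferInstance)
  let Q : Over S := Over.mk (pullback.fst eU.left hP.left ≫ E.hom)
  let qE : Q ⟶ E := Over.homMk (pullback.fst eU.left hP.left) rfl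
  let qP : Q ⟶ P := Over.homMk (pullback.snd eU.left hP.left) (by
    change pullback.snd eU.left hP.left ≫ P.hom = pullback.fst eU.left hP.left ≫ E.hom
    rw [← Over.w hP, ← Category.assoc, ← pullback.condition, Category.assoc, Over.w eU])
  have sqQ₀ : IsPullback qE qP eU hP :=
    IsPullback.of_map (Over.forget S) (Over.OverMorphism.ext pullback.condition)
      (IsPullback.of_hasPullback eU.left hP.left)
  let qU : Q ⟶ U := qE ≫ eU'
  have sqQ : IsPullback ((yon S).map qP) ((yon S).map qU) f p := by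
    rw [show f = (yon S).map hP ≫ mX by simp [f, jV, hP], Functor.map_comp]
    exact (sqQ₀.map (yon S)).flip.paste_vert sqE.flip
  haveI : QuasiCompact qU.left := quasiCompact_of_isPullback hfqc sqQ
  haveI : QuasiSeparatedSpace Q.left := by
    haveI : QuasiSeparated (pullback.snd eU.left hP.left) := inferInstance
    exact quasiSeparatedSpace_of_quasiSeparated (pullback.snd eU.left hP.left)
  haveI : QuasiSeparated qU.left := inferInstance
  have hPleft : (h ⁻¹ᵁ O).ι ≫ h = hP.left := (morphismRestrict_ι h O).symm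
  let μ : Q.left ⟶ pullback eU.left h :=
    pullback.lift (pullback.fst eU.left hP.left) (pullback.snd eU.left hP.left ≫ (h ⁻¹ᵁ O).ι) (by
      rw [Category.assoc, hPleft]
      exact pullback.condition)
  have hsqμ : IsPullback μ (pullback.snd eU.left hP.left) (pullback.snd eU.left h) (h ⁻¹ᵁ O).ι := by
    refine IsPullback.of_right (h₁₂ := pullback.fst eU.left h) (v₁₃ := eU.left) (h₂₂ := h) ?_
      (pullback.lift_snd _ _ _) (IsPullback.of_hasPullback _ _).flip.flip
    rw [hPleft, show μ ≫ pullback.fst eU.left h = pullback.fst eU.left hP.left from pullback.lift_fst _ _ _]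
    exact IsPullback.of_hasPullback _ _
  haveI : IsOpenImmersion μ := MorphismProperty.of_isPullback hsqμ.flip (inferInstanceAs (IsOpenImmersion (h ⁻¹ᵁ O).ι))
  obtain ⟨G, g, g', hn, hF⟩ := exists_scheme_normalization hX p hpe hps f hfqc hfqs qP qU sqQ fun z => by
    obtain ⟨K, k, hko, hkc, hkz, hkm⟩ := hsplit (μ z)
    refine ⟨μ ⁻¹ᵁ k.opensRange, hkc.preimage μ.continuous, hkz, ?_⟩
    let l := IsOpenImmersion.lift k ((μ ⁻¹ᵁ k.opensRange).ι ≫ μ) (by
      rintro _ ⟨t, rfl⟩
      exact t.2)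
    haveI : Mono (l ≫ k) := by
      rw [IsOpenImmersion.lift_fac]
      infer_instance
    haveI : Mono l := mono_of_mono l k
    have e : (μ ⁻¹ᵁ k.opensRange).ι ≫ qP.left ≫ (h ⁻¹ᵁ O).ι = l ≫ k ≫ pullback.snd eU.left h := by
      rw [← Category.assoc l, IsOpenImmersion.lift_fac, Category.assoc]
      exact congrArg ((μ ⁻¹ᵁ k.opensRange).ι ≫ ·) (pullback.lift_snd _ _ _).symm
    haveI : Mono (((μ ⁻¹ᵁ k.opensRange).ι ≫ qP.left) ≫ (h ⁻¹ᵁ O).ι) := by
      rw [Category.assoc, e]
      infer_instance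
    exact mono_of_mono _ (h ⁻¹ᵁ O).ι
  -- the restriction over the open is the source
  have sqPV : IsPullback g' ((yon S).map hO) g jV :=
    isPullback_of_finite_over_open hX hjV hO rfl hfqc hfqs hn
  have hrange : Set.range (Points.map jV) = ψ '' (O : Set M.left) := range_map_openIncl mX O
  have hjd' : Dense (Set.range (Points.map jV)) := hrange ▸ hOd
  refine ⟨G, g, openOver M O, jV, P, g', hO, hn.2.1, fun x => ?_, hF, hjV, hVc, hjd', sqPV, hOf, hOe⟩
  have hcl : IsClosedMap (Points.map g) :=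
    isClosedMap_map_of_repWith (fun _ _ k (_ : IsIntegralHom k) => inferInstance) (isIntegralMor_iff.1 hn.2.1)
  have hsub : Set.range (Points.map jV) ⊆ Set.range (Points.map g) := by
    rintro _ ⟨y, rfl⟩
    obtain ⟨v, rfl⟩ := (Points.schemeEquiv (openOver M O)).surjective y
    obtain ⟨t, ht⟩ := hh₁ (hOle v.2).1
    let t' : P.left := ⟨t, by change h t ∈ O; rw [ht]; exact v.2⟩
    refine ⟨Points.map g' (Points.schemeEquiv P t'), ?_⟩
    rw [← Points.map_comp, hn.1, Points.map_comp]
    refine (congrArg (Points.map jV) (Points.map_yon_map_apply hO _)).trans ?_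
    refine congrArg (fun a => Points.map jV (Points.schemeEquiv (openOver M O) a)) ?_
    exact Subtype.ext ((congrArg (fun q => q t') (morphismRestrict_ι h O)).trans ht)
  exact hcl.isClosed_range.closure_subset_iff.2 hsub (hjd' x)

/-- A finite surjective cover by a scheme, finite etale over a quasi-compact dense open. -/
theorem exists_cover_etale [QuasiSeparatedSpace S] {X : Sp S} (hX : IsAlgSpace X) (hXc : IsQuasiCompactSp X)
    (hXs : IsQuasiSeparatedSp X) (hirr : (irreducibleComponents (Points X)).Finite) {U : Over S}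
    (p : (yon S).obj U ⟶ X) (hpe : RepWith @Etale p) (hps : RepWith @Surjective p) :
    ∃ (Y : Over S) (g : (yon S).obj Y ⟶ X) (V : Over S) (j : (yon S).obj V ⟶ X),
      IsFiniteMor g ∧ IsSurjectiveMor g ∧ IsFinitePresentationMor g ∧ RepWith @IsOpenImmersion j ∧
      IsQuasiCompactSp ((yon S).obj V) ∧ Dense (Set.range (Points.map j)) ∧
      (∀ (P : Sp S) (fst : P ⟶ (yon S).obj Y) (snd : P ⟶ (yon S).obj V), IsPullback fst snd g j →
        IsFiniteMor snd ∧ IsEtaleMor snd) ∧ Factors p g := by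
  obtain ⟨U₁, q, hU₁, h1e, h1s⟩ := exists_affine_refinement hXc p hpe hps
  haveI := hU₁
  obtain ⟨G, g, V, j, PV, pv₁, pv₂, hg, hgs, hF, hj, hVc, hjd, sq, hf, he⟩ :=
    exists_integral_cover hX hXs hirr ((yon S).map q ≫ p) h1e h1s
  haveI := hf
  haveI := he
  have hr : RepWith @IsFinite ((yon S).map pv₂) := (repWith_yon_map_iff @IsFinite pv₂).2 hf
  have hfp : IsFinitePresentationMor ((yon S).map pv₂) :=
    ⟨locP_of_repWith etLocal_lfp ((repWith_yon_map_iff @LocallyOfFinitePresentation pv₂).2 inferInstance),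
      isQuasiCompactMor_of_repWith (IsAlgSpace.yon_obj _) (IsAlgSpace.yon_obj _)
        (repWith_le (fun _ _ k (_ : IsFinite k) => inferInstanceAs (QuasiCompact k)) hr),
      isQuasiSeparatedMor_of_isSeparatedMor (isSeparatedMor_of_repWith
        (repWith_le (fun _ _ k (_ : IsFinite k) => inferInstanceAs (IsSeparated k)) hr))⟩
  obtain ⟨Ψ, hΨ⟩ := Approx.exists_limit_finite_iso_over_open (IsAlgSpace.yon_obj G) hX hg hXc hXs
    (IsAlgSpace.yon_obj V) hj hVc sq hfp
  obtain ⟨i, W, eW, hW⟩ := exists_stage_factors Ψ.alg Ψ.affine Ψ.isLimit Ψ.qc Ψ.qs (Iso.refl _) hX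
    (locP_of_repWith etLocal_lfp
      (repWith_le (fun _ _ k (_ : Etale k) => inferInstanceAs (LocallyOfFinitePresentation k)) h1e))
    Ψ.t Ψ.fac (p := (yon S).map q ≫ p) (g := g) (by simpa using hF)
  obtain ⟨hfin, hsq⟩ := hΨ i
  have hfin' : RepWith @IsFinite (eW.hom ≫ Ψ.t.app i) :=
    MorphismProperty.RespectsIso.precomp (RepWith @IsFinite) _ _ (isFiniteMor_iff.1 hfin)
  refine ⟨W, eW.hom ≫ Ψ.t.app i, V, j, isFiniteMor_iff.2 hfin', fun x => ?_, ⟨?_,
    isQuasiCompactMor_of_repWith (IsAlgSpace.yon_obj W) hX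
      (repWith_le (fun _ _ k (_ : IsFinite k) => inferInstanceAs (QuasiCompact k)) hfin'),
    isQuasiSeparatedMor_of_isSeparatedMor (isSeparatedMor_of_repWith
      (repWith_le (fun _ _ k (_ : IsFinite k) => inferInstanceAs (IsSeparated k)) hfin'))⟩,
    hj, hVc, hjd, fun P fst snd sqP => ?_, fun y => ?_⟩
  · obtain ⟨z, rfl⟩ := hgs x
    refine ⟨Points.map eW.inv (Points.map (Ψ.π.app i) z), ?_⟩
    rw [← Points.map_comp, ← Points.map_comp, Iso.inv_hom_id_assoc, Ψ.fac]
  · haveI : MorphismProperty.ContainsIdentities (@LocallyOfFinitePresentation : MorphismProperty Scheme.{u}) :=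
      ⟨fun _ => inferInstance⟩
    exact locP_comp etLocal_lfp (IsAlgSpace.yon_obj W) (Ψ.alg i) hX
      (locP_of_repWith etLocal_lfp (repWith_of_isIso _)) (Ψ.fp i).1
  · let e₀ := (sqP.of_iso (Iso.refl _) eW (Iso.refl _) (Iso.refl _)
      (fst' := fst ≫ eW.hom) (snd' := snd) (f' := Ψ.t.app i) (g' := j)
      (by simp) (by simp) (by simp) (by simp)).isoIsPullback _ _ hsq
    have hsnd : snd = e₀.hom ≫ (yon S).map pv₂ := (IsPullback.isoIsPullback_hom_snd _ _ _ _).symm
    refine ⟨isFiniteMor_iff.2 ?_, NormSp.isEtaleMor_of_repWith ?_⟩ <;> rw [hsnd]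
    · exact MorphismProperty.RespectsIso.precomp (RepWith @IsFinite) _ _ hr
    · exact MorphismProperty.RespectsIso.precomp (RepWith @Etale) _ _ ((repWith_yon_map_iff @Etale pv₂).2 he)
  · obtain ⟨B, hB, k, hk⟩ := hW y
    exact ⟨B, hB, k ≫ q, by rw [Functor.map_comp, Category.assoc, hk]⟩

end Groth.Agent.H12AlgSp.SchemeCover
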