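import Groth.Agent.H12AlgSp.SchemeCover.Split
import Groth.Agent.H13AlgSp.DenseFiniteScheme

/-!
# An etale separated morphism finite over a quasi-compact open splits after an etale map onto the open
-/

set_option autoImplicit false
set_option backward.isDefEq.respectTransparency false
set_option linter.style.haveILetI false
universe u

open CategoryTheory CategoryTheory.Limits AlgebraicGeometry TopologicalSpace

namespace Groth.Agent.H12AlgSp.SchemeCover

theorem isClosed_range_sigmaι {σ : Type u} (g : σ → Scheme.{u}) (i : σ) :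
    IsClosed (Set.range (Sigma.ι g i)) := by
  rw [← isOpen_compl_iff]
  have : (Set.range (Sigma.ι g i))ᶜ = ⋃ j : {j : σ // j ≠ i}, Set.range (Sigma.ι g j.1) := by
    ext x
    simp only [Set.mem_compl_iff, Set.mem_iUnion]
    constructor
    · intro hx
      obtain ⟨⟨j, y⟩, rfl⟩ := (sigmaMk g).surjective x
      refine ⟨⟨j, ?_⟩, y, by rw [sigmaMk_mk]⟩
      rintro rfl
      exact hx ⟨y, by rw [sigmaMk_mk]⟩
    · rintro ⟨⟨j, hj⟩, y, rfl⟩ hx
      have hd : (Sigma.ι g j).opensRange ⊓ (Sigma.ι g i).opensRange = ⊥ := disjoint_iff.1 (disjoint_opensRange_sigmaι g j i hj)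
      exact ((SetLike.ext_iff.1 hd _).1 ⟨⟨y, rfl⟩, hx⟩)
  rw [this]
  exact isOpen_iUnion fun j => (Sigma.ι g j.1).isOpenEmbedding.isOpen_range

/-- An etale separated morphism, finite over a quasi-compact open of the target, is covered by clopen sections
after an etale map from an affine scheme onto that open. -/
theorem exists_split {E M : Scheme.{u}} (e : E ⟶ M) [Etale e] [IsSeparated e] (M₁ : M.Opens)
    (hM₁ : IsCompact (M₁ : Set M)) (hfin : IsFinite (e ∣_ M₁)) :
    ∃ (P : Scheme.{u}) (_ : IsAffine P) (h : P ⟶ M) (_ : Etale h), (M₁ : Set M) ⊆ Set.range h ∧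
      ∀ z : ↥(pullback e h), ∃ (K : Scheme.{u}) (k : K ⟶ pullback e h),
        IsOpenImmersion k ∧ IsClosed (Set.range k) ∧ z ∈ Set.range k ∧ Mono (k ≫ pullback.snd e h) := by
  have hloc : ∀ x : M₁, ∃ (T : Scheme.{u}) (_ : IsAffine T) (h : T ⟶ M) (_ : Etale h), (x : M) ∈ Set.range h ∧
      ∀ z : ↥(pullback e h), ∃ (s : T ⟶ E) (hs : s ≫ e = 𝟙 T ≫ h) (t : T), pullback.lift s (𝟙 T) hs t = z := by
    intro x
    obtain ⟨R, hR, hxR, hRM⟩ := exists_isAffineOpen_mem_and_subset (x := x.1) (U := M₁) x.2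
    haveI : IsAffine R := hR
    haveI : IsFinite (pullback.snd e R.ι) :=
      Groth.Agent.H13AlgSp.DenseFinite.isFinite_snd_of_restrict e R (Groth.Agent.H13AlgSp.DenseFinite.isFinite_restrict_le e hRM hfin)
    obtain ⟨T, hT, h, hh, ⟨t₀, ht₀⟩, hsplit⟩ := exists_split_affine (pullback.snd e R.ι) (⟨x.1, hxR⟩ : R)
    refine ⟨T, hT, h ≫ R.ι, inferInstance, ⟨t₀, congrArg R.ι ht₀⟩, fun z => ?_⟩
    let to' : pullback e (h ≫ R.ι) ⟶ pullback (pullback.snd e R.ι) h :=
      pullback.lift (pullback.lift (pullback.fst _ _) (pullback.snd _ _ ≫ h)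
        (by rw [Category.assoc, pullback.condition])) (pullback.snd _ _) (by rw [pullback.lift_snd])
    obtain ⟨s, hs, t, ht⟩ := hsplit (to' z)
    let back : pullback (pullback.snd e R.ι) h ⟶ pullback e (h ≫ R.ι) :=
      pullback.lift (pullback.fst _ _ ≫ pullback.fst _ _) (pullback.snd _ _)
        (by rw [Category.assoc, pullback.condition, ← Category.assoc, pullback.condition, Category.assoc])
    have hback : to' ≫ back = 𝟙 _ := by apply pullback.hom_ext <;> simp [to', back]
    have hs' : (s ≫ pullback.fst e R.ι) ≫ e = 𝟙 T ≫ h ≫ R.ι := by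
      rw [Category.assoc, pullback.condition, ← Category.assoc, hs, Category.assoc]
    refine ⟨s ≫ pullback.fst e R.ι, hs', t, ?_⟩
    have : pullback.lift (s ≫ pullback.fst e R.ι) (𝟙 T) hs' = pullback.lift s (𝟙 T) hs ≫ back := by
      apply pullback.hom_ext <;> simp [back]
    rw [this, Scheme.Hom.comp_apply, ht]
    change (to' ≫ back) z = z
    rw [hback]; rfl
  choose T hT h hh hx hsplit using hloc
  obtain ⟨F, hF⟩ := hM₁.elim_finite_subcover (fun x : M₁ => Set.range (h x))
    (fun x => (h x).isOpenMap.isOpen_range) (fun x hx' => Set.mem_iUnion.2 ⟨⟨x, hx'⟩, hx ⟨x, hx'⟩⟩)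
  let g : {x // x ∈ F} → Scheme.{u} := fun c => T c.1
  haveI : ∀ c, IsAffine (g c) := fun c => hT c.1
  let hP : (∐ g) ⟶ M := Sigma.desc fun c => h c.1
  haveI : Etale hP := IsZariskiLocalAtSource.sigmaDesc fun c => hh c.1
  refine ⟨∐ g, inferInstance, hP, inferInstance, fun m hm => ?_, fun z => ?_⟩
  · obtain ⟨x, hxF, t, ht⟩ := Set.mem_iUnion₂.1 (hF hm)
    refine ⟨Sigma.ι g ⟨x, hxF⟩ t, ?_⟩
    rw [← Scheme.Hom.comp_apply, Sigma.ι_desc]
    exact ht
  · obtain ⟨⟨c, t₀⟩, ht₀⟩ := (sigmaMk g).surjective (pullback.snd e hP z)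
    rw [sigmaMk_mk] at ht₀
    obtain ⟨w, hw₁, -⟩ := Scheme.Pullback.exists_preimage_pullback z t₀ ht₀.symm
    let to' : pullback (pullback.snd e hP) (Sigma.ι g c) ⟶ pullback e (h c.1) :=
      pullback.lift (pullback.fst _ _ ≫ pullback.fst _ _) (pullback.snd _ _) (by
        rw [Category.assoc, pullback.condition, pullback.condition_assoc, Sigma.ι_desc])
    obtain ⟨s, hs, t, ht⟩ := hsplit c.1 (to' w)
    have hs' : s ≫ e = Sigma.ι g c ≫ hP := by rw [hs, Category.id_comp, Sigma.ι_desc]
    let k : g c ⟶ pullback e hP := pullback.lift s (Sigma.ι g c) hs'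
    have hk : k ≫ pullback.snd e hP = Sigma.ι g c := pullback.lift_snd _ _ _
    haveI : IsClosedImmersion (Sigma.ι g c) :=
      .of_isPreimmersion _ (isClosed_range_sigmaι g c)
    haveI : IsClosedImmersion (k ≫ pullback.snd e hP) := by rw [hk]; infer_instance
    haveI : IsClosedImmersion k := IsClosedImmersion.of_comp k (pullback.snd e hP)
    haveI : Etale (k ≫ pullback.snd e hP) := by rw [hk]; infer_instance
    haveI : Etale k := Etale.of_comp k (pullback.snd e hP)
    refine ⟨g c, k, IsOpenImmersion.of_flat_of_mono k, k.isClosedEmbedding.isClosed_range, ⟨t, ?_⟩, by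
      rw [hk]; infer_instance⟩
    let back : pullback e (h c.1) ⟶ pullback e hP :=
      pullback.lift (pullback.fst _ _) (pullback.snd _ _ ≫ Sigma.ι g c)
        (by rw [Category.assoc, Sigma.ι_desc, pullback.condition])
    have hkb : k = pullback.lift s (𝟙 _) hs ≫ back := by
      apply pullback.hom_ext <;> simp [k, back]
      exact (Category.id_comp _).symm
    have htb : to' ≫ back = pullback.fst _ _ := by
      apply pullback.hom_ext
      · simp [to', back]
      · simp [to', back, pullback.condition]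
    rw [hkb, Scheme.Hom.comp_apply, ht, ← Scheme.Hom.comp_apply, htb, hw₁]

end Groth.Agent.H12AlgSp.SchemeCover
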