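import Groth.Agent.H12AlgSp.SchemeCover.NormScheme
import Groth.Agent.H12AlgSp.SchemeCover.SplitGlobal
import Groth.Agent.H12AlgSp.NormSp.Finite
import Groth.Agent.H12AlgSp.NormSp.BaseChange
import Groth.Agent.S10298
import Groth.Agent.H13AlgSp.DecentDense
import Groth.Agent.H12AlgSp.QSPullback
import Groth.Agent.H12AlgSp.AffImm.Dense
import Groth.Agent.H12AlgSp.SchImageImmersion
import Groth.Agent.H12AlgSp.GlueSheaf
import Groth.Agent.H12AlgSp.DecentSeparated
import Groth.Agent.H12AlgSp.AbsInt.Base
import Groth.Agent.H13AlgSp.FiniteMor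
import Groth.Agent.H12AlgSp.Approx.Descend
import Groth.Agent.H7Flat.QuasiFiniteDense

/-!
# Finite surjective covers by schemes of reduced Nagata algebraic spaces
-/

set_option autoImplicit false
set_option linter.style.haveILetI false
set_option maxHeartbeats 1600000
set_option backward.isDefEq.respectTransparency false
set_option backward.isDefEq.respectTransparency.types false
universe u

open CategoryTheory CategoryTheory.Limits AlgebraicGeometry Opposite TopologicalSpace
open AlgSp Groth.Agent.H13AlgSp

namespace Groth.Agent.H12AlgSp.SchemeCover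

variable {S : Scheme.{u}}

/-- A reduced Noetherian Nagata space has a finite surjective cover by a scheme factoring locally through a given
affine etale cover. -/
theorem exists_cover_reduced [QuasiSeparatedSpace S] {X : Sp S} (hX : IsAlgSpace X) (hXc : IsQuasiCompactSp X)
    (hXs : IsQuasiSeparatedSp X) (hN : IsLocNoethSp X)
    (hNag : EtaleLocally (fun U => ∀ V : U.Opens, IsAffineOpen V → CAlg.IsNagata ↑Γ(U, V)) X)
    (hred : IsReducedSp X) {U : Over S} [IsAffine U.left] (p : (yon S).obj U ⟶ X) (hpe : RepWith @Etale p)
    (hps : RepWith @Surjective p) :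
    ∃ (Y : Over S) (g : (yon S).obj Y ⟶ X), IsFiniteMor g ∧ IsSurjectiveMor g ∧ Factors p g := by
  have hXd : IsDecent X := isDecent_of_isQuasiSeparatedSp hX hXs
  have hUc : IsQuasiCompactSp ((yon S).obj U) := isQuasiCompactSp_yon_iff.2 inferInstance
  have hpqc : IsQuasiCompactMor p := isQuasiCompactMor_of_qc_qs (IsAlgSpace.yon_obj U) hX p hUc hXs
  have hpsep : RepWith @IsSeparated p := repWith_isSeparated_of_isSeparatedMor hpe.1
    (AbsInt.isSeparatedMor_of_isSeparatedSp p isSeparatedSp_yon_affine)
  -- a dense open subscheme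
  obtain ⟨X', j, hj, hX'r, hjd⟩ := exists_dense_open_subscheme ⟨X, hX⟩ hXd
  obtain ⟨M, ⟨eM⟩⟩ : ∃ M : Over S, Nonempty ((yon S).obj M ≅ X'.obj) :=
    ⟨hX'r.has_representation.choose, ⟨isoOfRepresentableBy hX'r.has_representation.choose_spec.some⟩⟩
  let mX : (yon S).obj M ⟶ X := eM.hom ≫ j.hom
  have hmX : RepWith @IsOpenImmersion mX := MorphismProperty.RespectsIso.precomp (RepWith @IsOpenImmersion) _ _ hj
  have hmXe : RepWith @Etale mX :=
    repWith_le (fun _ _ k (_ : IsOpenImmersion k) => inferInstanceAs (Etale k)) hmX
  haveI : IsReduced M.left := etaleLocally_chart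
    (fun k hk hB => by haveI := hk; haveI := hB; exact isReduced_of_smooth_mor k)
    (fun k hk hs hA => by
      haveI := hk; haveI := hs; haveI := hA
      exact Groth.Agent.H13AlgSp.FibreRed.isReduced_of_flat_surjective k)
    hX hred (b := mX) hmXe
  haveI : IsLocallyNoetherian M.left := etaleLocally_chart
    (fun g hg hB => @isLocallyNoetherian_of_etale _ _ g hg hB)
    (fun g hg hs hA => @isLocallyNoetherian_of_flat_lfp_surjective _ _ g
      inferInstance inferInstance hs hA) hX hN (b := mX) hmXe
  have := AffImm.noetherianSpace_points hXc hN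
  haveI : CompactSpace M.left := by
    have hemb : Topology.IsOpenEmbedding (Points.map mX) := by
      haveI := mono_of_openImmersion hmX
      exact Topology.IsOpenEmbedding.of_continuous_injective_isOpenMap (Points.continuous_map _) (injective_map_of_mono mX)
        (isOpenMap_map_of_repWith (fun _ _ k (_ : IsOpenImmersion k) => inferInstance) hmX)
    haveI : CompactSpace (Points ((yon S).obj M)) := ⟨hemb.isInducing.isCompact_iff.2 (NoetherianSpace.isCompact _)⟩
    exact (Points.schemeHomeo M).symm.compactSpace
  haveI : NoetherianSpace M.left :=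
    haveI : IsNoetherian M.left := ⟨⟩
    inferInstance
  obtain ⟨E, eU, eM', sqE⟩ := hpe.1 mX
  obtain ⟨eU', rfl⟩ := (yon S).map_surjective eM'
  haveI : Etale eU.left := hpe.property mX _ eU sqE
  haveI : IsSeparated eU.left := hpsep.property mX _ eU sqE
  haveI : QuasiCompact eU.left := quasiCompact_of_isPullback hpqc sqE
  obtain ⟨M₁, hM₁d, hM₁f⟩ := Groth.Agent.H7Flat.exists_dense_isFinite eU.left
  obtain ⟨P₀, hP₀a, h, hhe, hh₁, hsplit⟩ := exists_split eU.left M₁ (NoetherianSpace.isCompact _) hM₁f
  let P : Over S := Over.mk (h ≫ M.hom)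
  let hP : P ⟶ M := Over.homMk h rfl
  haveI : IsAffine P.left := hP₀a
  let f : (yon S).obj P ⟶ X := (yon S).map hP ≫ mX
  have hfe : RepWith @Etale f := repWith_comp ((repWith_yon_map_iff @Etale hP).2 hhe) hmXe
  have hPc : IsQuasiCompactSp ((yon S).obj P) := isQuasiCompactSp_yon_iff.2 inferInstance
  have hfqc : IsQuasiCompactMor f := isQuasiCompactMor_of_qc_qs (IsAlgSpace.yon_obj P) hX f hPc hXs
  have hfqs : IsQuasiSeparatedMor f := Approx.isQuasiSeparatedMor_of_isQuasiSeparatedSp f
    (isQuasiSeparatedSp_yon inferInstance)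
  have hflft : LocP @LocallyOfFiniteType f := fun A B a b k ha hb e => by
    haveI : Etale k.left := locP_of_repWith etLocal_etale hfe a b k ha hb e
    infer_instance
  haveI : IsReduced P.left := etaleLocally_chart
    (fun k hk hB => by haveI := hk; haveI := hB; exact isReduced_of_smooth_mor k)
    (fun k hk hs hA => by
      haveI := hk; haveI := hs; haveI := hA
      exact Groth.Agent.H13AlgSp.FibreRed.isReduced_of_flat_surjective k)
    hX hred (b := f) hfe
  haveI : MorphismProperty.ContainsIdentities (@Etale : MorphismProperty Scheme.{u}) := ⟨fun _ => inferInstance⟩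
  haveI : MorphismProperty.ContainsIdentities (@Surjective : MorphismProperty Scheme.{u}) := ⟨fun _ => inferInstance⟩
  have hPred : EtaleLocally (fun U => IsReduced U) ((yon S).obj P) :=
    ⟨P, 𝟙 _, repWith_of_isIso _, repWith_of_isIso _, ‹IsReduced P.left›⟩
  -- the restriction of the atlas to the source
  let Q : Over S := Over.mk (pullback.fst eU.left h ≫ E.hom)
  let qE : Q ⟶ E := Over.homMk (pullback.fst eU.left h) rfl
  let qP : Q ⟶ P := Over.homMk (pullback.snd eU.left h) (by
    change pullback.snd eU.left h ≫ h ≫ M.hom = pullback.fst eU.left h ≫ E.hom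
    rw [← Category.assoc, ← pullback.condition, Category.assoc, Over.w eU])
  have sqQ₀ : IsPullback qE qP eU hP :=
    IsPullback.of_map (Over.forget S) (Over.OverMorphism.ext pullback.condition) (IsPullback.of_hasPullback eU.left h)
  let qU : Q ⟶ U := qE ≫ eU'
  have sqQ : IsPullback ((yon S).map qP) ((yon S).map qU) f p := by
    rw [Functor.map_comp]
    exact (sqQ₀.map (yon S)).flip.paste_vert sqE.flip
  haveI : QuasiCompact qU.left := quasiCompact_of_isPullback hfqc sqQ
  haveI : QuasiSeparatedSpace Q.left := by
    haveI : QuasiSeparated (pullback.snd eU.left h ≫ terminal.from P₀) := inferInstance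
    exact quasiSeparatedSpace_of_quasiSeparated (pullback.snd eU.left h)
  haveI : QuasiSeparated qU.left := inferInstance
  obtain ⟨G, g, g', hn, hF⟩ := exists_scheme_normalization hX p hpe hps f hfqc hfqs qP qU sqQ fun z => by
    obtain ⟨K, k, hko, hkc, hkz, hkm⟩ := hsplit z
    refine ⟨k.opensRange, hkc, hkz, ?_⟩
    change Mono (k.opensRange.ι ≫ pullback.snd eU.left h)
    rw [← Scheme.Hom.isoOpensRange_inv_comp k, Category.assoc]
    infer_instance
  refine ⟨G, g, NormSp.isFiniteMor_of_nagata (IsAlgSpace.yon_obj P) hX (IsAlgSpace.yon_obj G) hNag hfqc hfqs hflft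
    hPred hn, ?_, hF⟩
  · -- surjectivity: the image is closed and dense
    have hcl : IsClosedMap (Points.map g) :=
      isClosedMap_map_of_repWith (fun _ _ k (_ : IsIntegralHom k) => inferInstance) (isIntegralMor_iff.1 hn.2.1)
    have hdense : Dense (Set.range (Points.map f)) := by
      have h1 : Dense (Set.range (Points.map mX)) := by
        rw [show Set.range (Points.map mX) = Set.range (Points.map j.hom) from by
          refine Set.Subset.antisymm ?_ ?_
          · rintro _ ⟨x, rfl⟩; exact ⟨Points.map eM.hom x, (Points.map_comp _ _ _).symm⟩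
          · rintro _ ⟨x, rfl⟩
            exact ⟨Points.map eM.inv x, by rw [← Points.map_comp, Iso.inv_hom_id_assoc]⟩]
        exact hjd
      have h2 : DenseRange (Points.map ((yon S).map hP)) := by
        rw [DenseRange, dense_iff_closure_eq, Set.eq_univ_iff_forall]
        intro x
        obtain ⟨v, rfl⟩ := (Points.schemeEquiv M).surjective x
        have hv : v ∈ closure (Set.range h) := closure_mono hh₁ (hM₁d v)
        refine map_mem_closure (Points.schemeHomeo M).continuous hv ?_
        rintro _ ⟨t, rfl⟩
        exact ⟨Points.schemeEquiv P t, Points.map_yon_map_apply hP t⟩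
      have h3 : DenseRange (Points.map mX ∘ Points.map ((yon S).map hP)) :=
        DenseRange.comp h1 h2 (Points.continuous_map _)
      rw [show Points.map mX ∘ Points.map ((yon S).map hP) = Points.map f from
        funext fun x => (Points.map_comp _ _ _).symm] at h3
      exact h3
    intro x
    have hsub : Set.range (Points.map f) ⊆ Set.range (Points.map g) := by
      rintro _ ⟨t, rfl⟩
      exact ⟨Points.map g' t, by rw [← Points.map_comp, hn.1]⟩
    exact hcl.isClosed_range.closure_subset_iff.2 hsub (hdense x)

end Groth.Agent.H12AlgSp.SchemeCover
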