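import Mathlib
import Groth.Agent.H18Et.FEtRestrictGamma

/-!
# Clopen subsets of the source extend to the relative normalization over an affine base
-/

set_option autoImplicit false
set_option backward.isDefEq.respectTransparency false
universe u

open CategoryTheory CategoryTheory.Limits AlgebraicGeometry TopologicalSpace

namespace Groth.Agent.H12AlgSp.SchemeCover

variable {Q U : Scheme.{u}} [IsAffine U] (f : Q ⟶ U) [QuasiCompact f] [QuasiSeparated f]

/-- A clopen subset of the source is the preimage of a clopen subset of the normalization. -/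
theorem exists_clopen_normalization {B : Set Q} (hB : IsClopen B) :
    ∃ O : f.normalization.Opens, IsClosed (O : Set f.normalization) ∧ f.toNormalization ⁻¹' O = B := by
  obtain ⟨e, he, hBe⟩ := H18Et.FEtRestrictGamma.exists_idempotent_of_isClopen B hB
  letI := (f.app ⊤).hom.toAlgebra
  let e' : Γ(Q, f ⁻¹ᵁ (⊤ : U.Opens)) := e
  have hint : IsIntegral Γ(U, ⊤) e' := by
    refine ⟨Polynomial.X ^ 2 - Polynomial.X, Polynomial.monic_X_pow_sub (Polynomial.degree_X_le.trans_lt (by norm_num)), ?_⟩
    simp [pow_two]
    exact sub_eq_zero.2 he
  let n : Γ(f.normalization, ⊤) := (f.normalizationObjIso (isAffineOpen_top U)).inv ⟨e', hint⟩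
  have hval : f.toNormalization.appTop n = e := by
    have h := congr($(f.normalizationObjIso_hom_val (isAffineOpen_top U)) n)
    refine Eq.trans ?_ (h.symm.trans ?_)
    · simp [Scheme.Hom.appLE]
    · simp only [n, CommRingCat.comp_apply, CategoryTheory.Iso.inv_hom_id_apply]
      rfl
  have hidem : n * n = n := by
    apply ((f.normalizationObjIso (isAffineOpen_top U)).commRingCatIsoToRingEquiv).injective
    change (f.normalizationObjIso (isAffineOpen_top U)).hom.hom (n * n) = _
    rw [map_mul]
    simp only [n, CategoryTheory.Iso.inv_hom_id_apply]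
    change _ = (f.normalizationObjIso (isAffineOpen_top U)).hom ((f.normalizationObjIso (isAffineOpen_top U)).inv ⟨e', hint⟩)
    rw [CategoryTheory.Iso.inv_hom_id_apply]
    exact Subtype.ext he
  refine ⟨f.normalization.basicOpen n, (H18Et.FEtRestrictGamma.isClopen_basicOpen n hidem).1, ?_⟩
  rw [← hBe, ← hval, ← Scheme.preimage_basicOpen_top]
  rfl

end Groth.Agent.H12AlgSp.SchemeCover
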