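import Groth.Agent.H12AlgSp.SchemeCover.NormClopen
import Groth.Agent.H12AlgSp.NormSp.BaseChange
import Groth.Agent.H12AlgSp.NormSp.Finite
import Groth.Agent.S10298
import Groth.Agent.H12AlgSp.GlueSheaf
import Groth.Agent.H12AlgSp.DecentSeparated
import Groth.Agent.H12AlgSp.AbsInt.Base
import Groth.Agent.H12AlgSp.SchImageImmersion
import Groth.Agent.H13AlgSp.FiniteMor

/-!
# A normalization that is a scheme
-/

set_option autoImplicit false
set_option linter.style.haveILetI false
set_option maxHeartbeats 1600000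
set_option backward.isDefEq.respectTransparency false
set_option backward.isDefEq.respectTransparency.types false
universe u

open CategoryTheory CategoryTheory.Limits AlgebraicGeometry Opposite TopologicalSpace
open AlgSp Groth.Agent.H13AlgSp

namespace Groth.Agent.H12AlgSp.SchemeCover

variable {S : Scheme.{u}}

/-- The morphism `g` locally factors through `p`. -/
def Factors {X : Sp S} {U Y : Over S} (p : (yon S).obj U ⟶ X) (g : (yon S).obj Y ⟶ X) : Prop :=
  ∀ y : ↥Y.left, ∃ (V : Y.left.Opens), y ∈ V ∧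
    ∃ k : Over.mk (V.ι ≫ Y.hom) ⟶ U, (yon S).map k ≫ p = (yon S).map (Over.homMk V.ι) ≫ g

/-- If the pull back of an affine etale cover to the source splits, the normalization is a scheme, factoring locally
through the cover. -/
theorem exists_scheme_normalization {X : Sp S} (hX : IsAlgSpace X) {U : Over S} [IsAffine U.left]
    (p : (yon S).obj U ⟶ X) (hpe : RepWith @Etale p) (hps : RepWith @Surjective p) {P : Over S}
    (f : (yon S).obj P ⟶ X) (hfqc : IsQuasiCompactMor f) (hfqs : IsQuasiSeparatedMor f) {Q : Over S}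
    (qP : Q ⟶ P) (qU : Q ⟶ U) (sqQ : IsPullback ((yon S).map qP) ((yon S).map qU) f p)
    [QuasiSeparated qU.left]
    (hsplit : ∀ z : Q.left, ∃ B : Q.left.Opens, IsClosed (B : Set Q.left) ∧ z ∈ B ∧ Mono (B.ι ≫ qP.left)) :
    ∃ (G : Over S) (g : (yon S).obj G ⟶ X) (g' : (yon S).obj P ⟶ (yon S).obj G),
      IsRelNormalization f g g' ∧ Factors p g := by
  obtain ⟨Y, ν, f', hY, hn, -⟩ := NormSp.exists_isRelNormalization (IsAlgSpace.yon_obj P) hX f hfqc hfqs
  have hfull := NormSp.fullAt_of_isRelNormalization (IsAlgSpace.yon_obj P) hX hY hfqc hfqs hn (IsAlgSpace.yon_obj U) p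
    (NormSp.locP_smooth_of_isEtaleMor (NormSp.isEtaleMor_of_repWith hpe))
  obtain ⟨N, νN, a, sqN⟩ := (isIntegralMor_iff.1 hn.2.1).1 p
  have hae : RepWith @Etale a := repWith_of_isPullback sqN.flip hpe
  haveI : IsIntegralHom νN.left := (isIntegralMor_iff.1 hn.2.1).property p a νN sqN
  haveI : IsAffine N.left := isAffine_of_isAffineHom νN.left
  obtain ⟨m, hm⟩ := (yon S).map_surjective (sqN.lift ((yon S).map qP ≫ f') ((yon S).map qU)
    (by rw [Category.assoc, hn.1, sqQ.w]))
  have hm₁ : (yon S).map m ≫ a = (yon S).map qP ≫ f' := by rw [hm, sqN.lift_fst]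
  have hm₂ : (yon S).map m ≫ (yon S).map νN = (yon S).map qU := by rw [hm, sqN.lift_snd]
  have sqM : IsPullback ((yon S).map m) ((yon S).map qP) a f' := by
    refine IsPullback.of_right (h₁₂ := (yon S).map νN) (v₁₃ := p) (h₂₂ := ν) ?_ hm₁ sqN.flip
    rw [hm₂, hn.1]
    exact sqQ.flip
  have hnQ : IsRelNormalization ((yon S).map qU) ((yon S).map νN) ((yon S).map m) :=
    hfull _ _ _ _ ((yon S).map m) sqQ sqN hm₁ hm₂
  haveI : QuasiCompact qU.left := quasiCompact_of_isPullback hfqc sqQ
  let N' : Over S := Over.mk (qU.left.fromNormalization ≫ U.hom)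
  let m' : Q ⟶ N' := Over.homMk qU.left.toNormalization
    (((reassoc_of% Scheme.Hom.toNormalization_fromNormalization qU.left) U.hom).trans (Over.w qU))
  let ν' : N' ⟶ U := Over.homMk qU.left.fromNormalization rfl
  have hM' := Groth.Agent.S10298.result qU m' ν' (Iso.refl _) (by simp [m']) (by simp [ν'])
  obtain ⟨e₁, he₁, -⟩ := NormSp.exists_iso_of_isRelNormalization (IsAlgSpace.yon_obj N) (IsAlgSpace.yon_obj N') hnQ hM'
  obtain ⟨e₁', he₁'⟩ := (yon S).map_surjective e₁.hom
  haveI : IsIso e₁' := (yon S).preimageIso e₁ |>.isIso_hom |> fun _ => by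
    rw [show e₁' = ((yon S).preimageIso e₁).hom from (yon S).map_injective (by simp [he₁'])]
    infer_instance
  haveI : IsIso e₁'.left := inferInstanceAs (IsIso ((Over.forget S).map e₁'))
  have hme : m.left ≫ e₁'.left = qU.left.toNormalization := by
    rw [← Over.comp_left, show m ≫ e₁' = m' from (yon S).map_injective (by rw [Functor.map_comp, he₁', he₁])]
    rfl
  have hmdense : DenseRange m.left := by
    rw [DenseRange, dense_iff_closure_eq]
    have hd : DenseRange qU.left.toNormalization := qU.left.toNormalization.denseRange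
    have e : m.left = qU.left.toNormalization ≫ inv e₁'.left := by rw [← hme]; simp
    rw [e]
    exact ((inv e₁'.left).denseRange.comp hd (inv e₁'.left).continuous).closure_range
  -- the clopen pieces
  choose B hBc hBz hBm using hsplit
  have hB : ∀ z, ∃ O : N.left.Opens, IsClosed (O : Set N.left) ∧ m.left ⁻¹' O = (B z : Set Q.left) := fun z => by
    obtain ⟨O₀, hO₀, hO₀B⟩ := exists_clopen_normalization qU.left (B := (B z : Set Q.left)) ⟨hBc z, (B z).2⟩
    refine ⟨e₁'.left ⁻¹ᵁ O₀, hO₀.preimage e₁'.left.continuous, ?_⟩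
    rw [← hO₀B, ← hme]
    rfl
  choose O hOc hOB using hB
  haveI : CompactSpace Q.left := QuasiCompact.compactSpace_of_compactSpace qU.left
  obtain ⟨F, hF⟩ := isCompact_univ.elim_finite_subcover (fun z => (B z : Set Q.left))
    (fun z => (B z).2) (fun z _ => Set.mem_iUnion.2 ⟨z, hBz z⟩)
  have hOcov : ∀ n : N.left, ∃ z, n ∈ O z := by
    intro n
    have hcl : IsClosed (⋃ z ∈ F, (O z : Set N.left)) := F.finite_toSet.isClosed_biUnion fun z _ => hOc z
    have hsub : Set.range m.left ⊆ ⋃ z ∈ F, (O z : Set N.left) := by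
      rintro _ ⟨x, rfl⟩
      obtain ⟨z, hzF, hxz⟩ := Set.mem_iUnion₂.1 (hF (Set.mem_univ x))
      exact Set.mem_iUnion₂.2 ⟨z, hzF, (hOB z).ge hxz⟩
    obtain ⟨z, -, hz⟩ := Set.mem_iUnion₂.1 ((hcl.closure_subset_iff.2 hsub) (hmdense n))
    exact ⟨z, hz⟩
  -- each piece maps to the normalization by an open immersion
  let jO : ∀ z, (yon S).obj (openOver N (O z)) ⟶ Y := fun z => (yon S).map (openIncl N (O z)) ≫ a
  have hjO : ∀ z, RepWith @IsOpenImmersion (jO z) := by
    intro z
    have hje : RepWith @Etale (jO z) :=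
      repWith_comp ((repWith_yon_map_iff @Etale _).2 (inferInstanceAs (Etale (O z).ι))) hae
    refine (mono_iff_locP_openImmersion (IsAlgSpace.yon_obj _) hY).2 ⟨mono_of_yon fun T b₁ b₂ e => ?_,
      locP_of_repWith etLocal_etale hje⟩
    haveI : IsSeparated (openOver N (O z)).hom := inferInstanceAs (IsSeparated ((O z).ι ≫ N.hom))
    have hjs : RepWith @IsSeparated (jO z) := repWith_isSeparated_of_isSeparatedMor hje.1
      (AbsInt.isSeparatedMor_of_isSeparatedSp _ (isSeparatedSp_yon ‹_›))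
    obtain ⟨R, r₁, r₂', sqR⟩ := hje.1 (jO z)
    obtain ⟨r₂, rfl⟩ := (yon S).map_surjective r₂'
    haveI : Etale r₁.left := hje.property _ _ r₁ sqR
    haveI : IsSeparated r₁.left := hjs.property _ _ r₁ sqR
    obtain ⟨δ, hδ⟩ := (yon S).map_surjective (sqR.lift (𝟙 _) (𝟙 _) rfl)
    have hδ₁ : δ ≫ r₁ = 𝟙 _ := (yon S).map_injective (by
      rw [Functor.map_comp, hδ, sqR.lift_snd, CategoryTheory.Functor.map_id])
    have hδ₂ : δ ≫ r₂ = 𝟙 _ := (yon S).map_injective (by
      rw [Functor.map_comp, hδ, sqR.lift_fst, CategoryTheory.Functor.map_id])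
    haveI : IsClosedImmersion (δ.left ≫ r₁.left) := by
      rw [← Over.comp_left, hδ₁]; exact inferInstanceAs (IsClosedImmersion (𝟙 _))
    haveI : Etale (δ.left ≫ r₁.left) := by
      rw [← Over.comp_left, hδ₁]; exact inferInstanceAs (Etale (𝟙 _))
    haveI : IsClosedImmersion δ.left := IsClosedImmersion.of_comp δ.left r₁.left
    haveI : Etale δ.left := Etale.of_comp δ.left r₁.left
    haveI : IsOpenImmersion δ.left := IsOpenImmersion.of_flat_of_mono δ.left
    haveI hδs : Surjective δ.left := by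
      by_contra hns
      have hne : (Set.range δ.left)ᶜ.Nonempty := Set.nonempty_compl.2 fun h =>
        hns ⟨fun c => h.ge (Set.mem_univ c)⟩
      obtain ⟨_, ⟨c, hc, rfl⟩, q, hq⟩ := hmdense.inter_open_nonempty ((r₁.left ≫ (O z).ι) '' (Set.range δ.left)ᶜ)
        ((r₁.left ≫ (O z).ι).isOpenMap _ δ.left.isClosedEmbedding.isClosed_range.isOpen_compl) (hne.image _)
        |>.imp fun x hx => hx
      obtain ⟨x, hx₁, hx₂⟩ := Scheme.Pullback.exists_preimage_pullback (f := r₁.left ≫ (O z).ι) (g := m.left) c q hq.symm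
      let Zo : Over S := Over.mk (pullback.fst (r₁.left ≫ (O z).ι) m.left ≫ R.hom)
      let u : Zo ⟶ R := Over.homMk (pullback.fst _ _) rfl
      let v : Zo ⟶ Q := Over.homMk (pullback.snd _ _) (by
        change pullback.snd _ _ ≫ Q.hom = pullback.fst _ _ ≫ R.hom
        rw [← Over.w m, ← Category.assoc, ← pullback.condition, ← Over.w r₁]
        simp only [Category.assoc]
        rfl)
      let w₁ : Zo ⟶ N := u ≫ r₁ ≫ openIncl N (O z)
      let w₂ : Zo ⟶ N := u ≫ r₂ ≫ openIncl N (O z)
      have hv : v ≫ m = w₁ := Over.OverMorphism.ext pullback.condition.symm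
      have hw : (yon S).map w₂ ≫ a = (yon S).map (v ≫ qP) ≫ f' :=
        calc (yon S).map w₂ ≫ a = (yon S).map u ≫ (yon S).map r₂ ≫ jO z := by
              simp only [w₂, jO, Functor.map_comp, Category.assoc]
          _ = (yon S).map u ≫ (yon S).map r₁ ≫ jO z := congrArg ((yon S).map u ≫ ·) sqR.w
          _ = (yon S).map w₁ ≫ a := by simp only [w₁, jO, Functor.map_comp, Category.assoc]
          _ = (yon S).map v ≫ (yon S).map m ≫ a := by rw [← hv, Functor.map_comp, Category.assoc]
          _ = (yon S).map (v ≫ qP) ≫ f' := by rw [hm₁, Functor.map_comp, Category.assoc]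
      obtain ⟨v₂, hv₂⟩ := (yon S).map_surjective (sqM.lift ((yon S).map w₂) ((yon S).map (v ≫ qP)) hw)
      have hv₂m : v₂ ≫ m = w₂ := (yon S).map_injective (by rw [Functor.map_comp, hv₂, sqM.lift_fst])
      have hv₂q : v₂ ≫ qP = v ≫ qP := (yon S).map_injective (by rw [Functor.map_comp, hv₂, sqM.lift_snd])
      
      have hin : ∀ (w : Zo ⟶ Q) (r : R ⟶ openOver N (O z)), w ≫ m = u ≫ r ≫ openIncl N (O z) →
          Set.range w.left ⊆ Set.range (B z).ι := fun w r e => by
        rintro _ ⟨t, rfl⟩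
        rw [Scheme.Opens.range_ι, ← hOB z]
        change (w.left ≫ m.left) t ∈ O z
        rw [← Over.comp_left, e]
        exact ((u ≫ r).left t).2
      let u₁ := IsOpenImmersion.lift (B z).ι v.left (hin v r₁ hv)
      let u₂ := IsOpenImmersion.lift (B z).ι v₂.left (hin v₂ r₂ hv₂m)
      haveI := hBm z
      have hu : u₁ = u₂ := (cancel_mono ((B z).ι ≫ qP.left)).1 (by
        simp only [u₁, u₂, IsOpenImmersion.lift_fac_assoc]
        exact (congrArg CommaMorphism.left hv₂q).symm)
      have hvv : v = v₂ := Over.OverMorphism.ext (by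
        rw [← IsOpenImmersion.lift_fac (B z).ι v.left (hin v r₁ hv), ← IsOpenImmersion.lift_fac (B z).ι v₂.left (hin v₂ r₂ hv₂m)]
        exact congrArg (· ≫ (B z).ι) hu)
      haveI : Mono (openIncl N (O z)) := Functor.mono_of_mono_map (Over.forget S) (inferInstanceAs (Mono (O z).ι))
      have h12 : u ≫ r₁ = u ≫ r₂ := (cancel_mono (openIncl N (O z))).1 (by
        rw [Category.assoc, Category.assoc]
        exact hv.symm.trans ((congrArg (· ≫ m) hvv).trans hv₂m))
      have hud : u = (u ≫ r₁) ≫ δ := (yon S).map_injective (by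
        refine sqR.hom_ext ?_ ?_
        · rw [← Functor.map_comp, ← Functor.map_comp, Category.assoc _ δ, hδ₂, Category.comp_id, ← h12]
        · rw [← Functor.map_comp, ← Functor.map_comp, Category.assoc _ δ, hδ₁, Category.comp_id])
      refine hc ⟨(u ≫ r₁).left x, ?_⟩
      change ((u ≫ r₁) ≫ δ).left x = c
      rw [← hud]
      exact hx₁
    haveI : IsIso δ.left := (isIso_iff_isOpenImmersion_and_surjective δ.left).2 ⟨‹_›, hδs⟩
    haveI : IsIso δ :=
      haveI : IsIso ((Over.forget S).map δ) := ‹IsIso δ.left›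
      isIso_of_reflects_iso δ (Over.forget S)
    have hr : r₁ = r₂ := (cancel_epi δ).1 (hδ₁.trans hδ₂.symm)
    exact (sqR.lift_fst b₁ b₂ e).symm.trans ((congrArg (fun r => sqR.lift b₁ b₂ e ≫ (yon S).map r) hr.symm).trans (sqR.lift_snd b₁ b₂ e))
  have hasurj : Function.Surjective (Points.map a) :=
    surjective_map_of_repWith le_rfl (repWith_of_isPullback sqN.flip hps)
  obtain ⟨G, μ, hμ⟩ := exists_iso_of_openCover (fun z => openOver N (O z)) jO hjO (fun T y t => by
    obtain ⟨xN, hxN⟩ := hasurj (Points.ofPt y t)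
    obtain ⟨n, hn'⟩ := (Points.schemeEquiv N).surjective xN
    obtain ⟨z, hz⟩ := hOcov n
    refine ⟨z, Points.ofScheme _ ⟨n, hz⟩, ?_⟩
    rw [Points.map_comp]
    refine (congrArg (Points.map a) (Points.map_yon_map_apply _ _)).trans ?_
    change Points.map a (Points.schemeEquiv N n) = _
    rw [hn', hxN])
  refine ⟨G, μ ≫ ν, f' ≫ inv μ, ?_, fun y => ?_⟩
  · refine ⟨by rw [Category.assoc, IsIso.inv_hom_id_assoc, hn.1], isIntegralMor_iff.2
      (MorphismProperty.RespectsIso.precomp (RepWith @IsIntegralHom) μ _ (isIntegralMor_iff.1 hn.2.1)),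
      fun Z hZ π g hπ hg => ?_⟩
    obtain ⟨l, ⟨hl₁, hl₂⟩, hu⟩ := hn.2.2 hZ π g hπ hg
    refine ⟨μ ≫ l, ⟨by rw [Category.assoc, IsIso.inv_hom_id_assoc, hl₁], by rw [Category.assoc, hl₂]⟩,
      fun l' hl' => ?_⟩
    rw [← hu (inv μ ≫ l') ⟨by rw [← Category.assoc, hl'.1], by rw [Category.assoc, hl'.2, IsIso.inv_hom_id_assoc]⟩,
      IsIso.hom_inv_id_assoc]
  obtain ⟨xN, hxN⟩ := hasurj (Points.map μ (Points.schemeEquiv G y))
  obtain ⟨n, rfl⟩ := (Points.schemeEquiv N).surjective xN
  obtain ⟨z, hz⟩ := hOcov n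
  obtain ⟨l, hl⟩ := (yon S).map_surjective (jO z ≫ inv μ)
  haveI : IsOpenImmersion l.left := (repWith_yon_map_iff @IsOpenImmersion l).1 (by
    rw [hl]
    exact repWith_comp (hjO z) (repWith_of_isIso _))
  have hyl : l.left ⟨n, hz⟩ = y := by
    apply (Points.schemeEquiv G).injective
    refine (Points.map_yon_map_apply l _).symm.trans ?_
    rw [hl, Points.map_comp]
    have : Points.map (jO z) (Points.ofScheme (openOver N (O z)) ⟨n, hz⟩) = Points.map μ (Points.schemeEquiv G y) := by
      rw [Points.map_comp]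
      refine (congrArg (Points.map a) (Points.map_yon_map_apply _ _)).trans ?_
      exact hxN
    refine (congrArg (Points.map (inv μ)) this).trans ?_
    rw [← Points.map_comp, IsIso.hom_inv_id, Points.map_id]
  let V := l.left.opensRange
  let lV : Over.mk (V.ι ≫ G.hom) ⟶ openOver N (O z) :=
    Over.homMk (l.left.isoOpensRange.inv) (by
      change l.left.isoOpensRange.inv ≫ (openOver N (O z)).hom = V.ι ≫ G.hom
      rw [← Over.w l, ← Category.assoc, Scheme.Hom.isoOpensRange_inv_comp])
  refine ⟨V, ⟨_, hyl⟩, lV ≫ openIncl N (O z) ≫ νN, ?_⟩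
  have e : lV ≫ l = Over.homMk V.ι := Over.OverMorphism.ext (Scheme.Hom.isoOpensRange_inv_comp _)
  rw [← e, Functor.map_comp, Functor.map_comp, Functor.map_comp, hl]
  simp only [jO, Category.assoc, IsIso.inv_hom_id_assoc, sqN.w]

end Groth.Agent.H12AlgSp.SchemeCover
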