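import Groth.Agent.H12AlgSp.SchemeCover.Noetherian
import Groth.Agent.H12AlgSp.Approx.AffineTarget
import Groth.Agent.H12AlgSp.NagataSpace
import Groth.Agent.H06Unibr.Normal
import Groth.Agent.H13AlgSp.RedInduced
import Groth.Agent.S10013

/-!
# Finite surjective covers of qcqs algebraic spaces by schemes
-/

set_option autoImplicit false
set_option linter.style.haveILetI false
set_option maxHeartbeats 1600000
set_option backward.isDefEq.respectTransparency false
set_option backward.isDefEq.respectTransparency.types false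
universe u

open CategoryTheory CategoryTheory.Limits AlgebraicGeometry Opposite TopologicalSpace
open AlgSp Groth.Agent.H13AlgSp Groth.Agent.H12AlgSp.Shriek

attribute [local instance] CategoryTheory.isConnected_of_hasTerminal

namespace Groth.Agent.H12AlgSp.SchemeCover

variable {S : Scheme.{u}}

theorem lfp_le_lft : (@LocallyOfFinitePresentation : MorphismProperty Scheme.{u}) ≤ @LocallyOfFiniteType :=
  fun _ _ k (_ : LocallyOfFinitePresentation k) => inferInstanceAs (LocallyOfFiniteType k)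

/-- Spaces locally of finite type over a terminal base are Nagata. -/
theorem isNagataSp_of_terminal (hS : IsTerminal S) {F : Sp S} (hF : IsAlgSpace F)
    (hf : LocP @LocallyOfFiniteType (Approx.strMap F)) :
    EtaleLocally (fun U => ∀ V : U.Opens, IsAffineOpen V → CAlg.IsNagata ↑Γ(U, V)) F := by
  refine isNagataSp_of_lft hF (IsAlgSpace.yon_obj _) hf ?_
  haveI : MorphismProperty.ContainsIdentities (@Etale : MorphismProperty Scheme.{u}) := ⟨fun _ => inferInstance⟩
  haveI : MorphismProperty.ContainsIdentities (@Surjective : MorphismProperty Scheme.{u}) := ⟨fun _ => inferInstance⟩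
  refine ⟨Over.mk (𝟙 S), 𝟙 _, repWith_of_isIso _, repWith_of_isIso _, ?_⟩
  let e : S ≅ Spec (CommRingCat.of (ULift.{u} ℤ)) := hS.uniqueUpToIso specULiftZIsTerminal
  have h0 : ∀ A : (Spec (CommRingCat.of (ULift.{u} ℤ))).Opens, IsAffineOpen A →
      CAlg.IsNagata ↑Γ(Spec (CommRingCat.of (ULift.{u} ℤ)), A) := fun A hA =>
    H8Props.NagataAffine.isNagata_affineOpen _ (fun _ : PUnit.{u + 1} => ⊤) (by simp)
      (fun _ => isAffineOpen_top _) A hA fun _ =>
      H8Props.NagataAffine.isNagata_of_ringEquiv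
        (Scheme.ΓSpecIso (CommRingCat.of (ULift.{u} ℤ))).symm.commRingCatIsoToRingEquiv H06Unibr.isNagata_int
  exact fun V hV => isNagata_affineOpens_of_lft e.hom h0 V hV

/-- The case of a space of finite presentation over a terminal base. -/
theorem exists_cover_noetherian [QuasiSeparatedSpace S] (hS : IsTerminal S) {X : Sp S} (hX : IsAlgSpace X)
    (hXc : IsQuasiCompactSp X) (hXs : IsQuasiSeparatedSp X)
    (hl : LocP @LocallyOfFiniteType (Approx.strMap X)) {U : Over S} [IsAffine U.left] (p : (yon S).obj U ⟶ X)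
    (hpe : RepWith @Etale p) (hps : RepWith @Surjective p) :
    ∃ (Y : Over S) (g : (yon S).obj Y ⟶ X), IsFiniteMor g ∧ IsSurjectiveMor g ∧
      LocP @LocallyOfFinitePresentation g ∧ Factors p g := by
  haveI := (Approx.isNoetherian_of_isTerminal hS).2
  haveI : IsLocallyNoetherian (Over.mk (𝟙 S)).left := inferInstanceAs (IsLocallyNoetherian S)
  have hN : IsLocNoethSp X := H13AlgSp.isLocNoethSp_of_lft hX hl
  obtain ⟨Xr, i, hXr, hi, hrange, hred⟩ := H13AlgSp.exists_isRedInduced hX (isClosed_univ (X := Points X))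
  have hia : IsAffineMor i := isAffineMor_iff.2
    (repWith_le (fun _ _ k (_ : IsClosedImmersion k) => inferInstanceAs (IsAffineHom k)) hi)
  obtain ⟨hXrc, hXrs⟩ := Approx.qc_qs_of_isAffineMor hXr hX hia hXc hXs
  have hrl : LocP @LocallyOfFiniteType (Approx.strMap Xr) := by
    rw [Approx.strMap_ext (Approx.strMap Xr) (i ≫ Approx.strMap X)]
    exact locP_comp etLocal_lft hXr hX (IsAlgSpace.yon_obj _) (locP_of_repWith etLocal_lft
      (repWith_le (fun _ _ k (_ : IsClosedImmersion k) => inferInstanceAs (LocallyOfFiniteType k)) hi)) hl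
  have hrN : IsLocNoethSp Xr := H13AlgSp.isLocNoethSp_of_lft hXr hrl
  obtain ⟨Ur, uU, fst, sq, hUr⟩ := hia ‹IsAffine U.left› p
  haveI := hUr
  obtain ⟨Y, g, hgf, hgs, hgF⟩ := exists_cover_reduced hXr hXrc hXrs hrN (isNagataSp_of_terminal hS hXr hrl) hred
    fst (repWith_of_isPullback sq.flip hpe) (repWith_of_isPullback sq.flip hps)
  have hfin : RepWith @IsFinite (g ≫ i) := repWith_comp (isFiniteMor_iff.1 hgf)
    (repWith_le (fun _ _ k (_ : IsClosedImmersion k) => inferInstanceAs (IsFinite k)) hi)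
  refine ⟨Y, g ≫ i, isFiniteMor_iff.2 hfin, fun x => ?_, Approx.locP_lfp_of_lft hX hN (locP_of_repWith etLocal_lft
    (repWith_le (fun _ _ k (_ : IsFinite k) => inferInstanceAs (LocallyOfFiniteType k)) hfin)), fun y => ?_⟩
  · obtain ⟨r, rfl⟩ := hrange.ge (Set.mem_univ x)
    obtain ⟨t, rfl⟩ := hgs r
    exact ⟨t, Points.map_comp _ _ _⟩
  · obtain ⟨V, hyV, k, hk⟩ := hgF y
    refine ⟨V, hyV, k ≫ uU, ?_⟩
    rw [Functor.map_comp, Category.assoc, ← sq.w, ← Category.assoc, hk, Category.assoc]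

/-- Covers of a stage give covers of the limit. -/
theorem exists_cover_of_isPullback {X X₀ : Sp S} (hX : IsAlgSpace X) (hX₀ : IsAlgSpace X₀) {π : X ⟶ X₀}
    (hπ : IsAffineMor π) {U U₀ : Over S} {p : (yon S).obj U ⟶ X} {p₀ : (yon S).obj U₀ ⟶ X₀}
    {u : (yon S).obj U ⟶ (yon S).obj U₀} (sq : IsPullback u p p₀ π) {Y₀ : Over S} {g₀ : (yon S).obj Y₀ ⟶ X₀}
    (hfin : IsFiniteMor g₀) (hsurj : IsSurjectiveMor g₀) (hlfp : LocP @LocallyOfFinitePresentation g₀)
    (hF : Factors p₀ g₀) :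
    ∃ (Y : Over S) (g : (yon S).obj Y ⟶ X), IsFiniteMor g ∧ IsSurjectiveMor g ∧
      LocP @LocallyOfFinitePresentation g ∧ Factors p g := by
  obtain ⟨Y, y', g, sqY⟩ := (isAffineMor_iff.1 hπ).1 g₀
  refine ⟨Y, g, isFiniteMor_iff.2 (repWith_of_isPullback sqY.flip (isFiniteMor_iff.1 hfin)),
    Approx.surjective_map_of_isPullback sqY.flip hsurj,
    locP_of_isPullback etLocal_lfp sqY.flip (IsAlgSpace.yon_obj _) hX₀ hX hlfp, fun y => ?_⟩
  obtain ⟨V₀, hyV, k₀, hk₀⟩ := hF (y'.left y)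
  let V := y'.left ⁻¹ᵁ V₀
  let r : Over.mk (V.ι ≫ Y.hom) ⟶ Over.mk (V₀.ι ≫ Y₀.hom) :=
    Over.homMk (y'.left ∣_ V₀) (by
      change (y'.left ∣_ V₀) ≫ V₀.ι ≫ Y₀.hom = V.ι ≫ Y.hom
      rw [morphismRestrict_ι_assoc, Over.w y'])
  obtain ⟨k, hk⟩ := (yon S).map_surjective (sq.lift ((yon S).map (r ≫ k₀))
    ((yon S).map (Over.homMk V.ι : Over.mk (V.ι ≫ Y.hom) ⟶ Y) ≫ g) (by
      rw [Functor.map_comp, Category.assoc, hk₀, Category.assoc, sqY.w, ← Category.assoc,
        ← Category.assoc, ← Functor.map_comp, ← Functor.map_comp]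
      congr 2
      exact Over.OverMorphism.ext (morphismRestrict_ι _ _)))
  exact ⟨V, hyV, k, by rw [hk, sq.lift_snd]⟩

/-- The case of a terminal base. -/
theorem exists_cover_terminal [QuasiSeparatedSpace S] (hS : IsTerminal S) {X : Sp S} (hX : IsAlgSpace X)
    (hXc : IsQuasiCompactSp X) (hXs : IsQuasiSeparatedSp X) {U : Over S} [IsAffine U.left] (p : (yon S).obj U ⟶ X)
    (hpe : RepWith @Etale p) (hps : RepWith @Surjective p) :
    ∃ (Y : Over S) (g : (yon S).obj Y ⟶ X), IsFiniteMor g ∧ IsSurjectiveMor g ∧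
      LocP @LocallyOfFinitePresentation g ∧ Factors p g := by
  obtain ⟨τ⟩ := Approx.exists_sys hS hX hXc hXs
  have hUc : IsQuasiCompactSp ((yon S).obj U) := isQuasiCompactSp_yon_iff.2 inferInstance
  have hfp : IsFinitePresentationMor p :=
    ⟨locP_of_repWith etLocal_lfp
      (repWith_le (fun _ _ k (_ : Etale k) => inferInstanceAs (LocallyOfFinitePresentation k)) hpe),
      isQuasiCompactMor_of_qc_qs (IsAlgSpace.yon_obj U) hX p hUc hXs,
      Approx.isQuasiSeparatedMor_of_isQuasiSeparatedSp p (isQuasiSeparatedSp_yon inferInstance)⟩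
  obtain ⟨i, Z, f₀, pX, hZ, hf₀, hZc, hZs, sq⟩ := Approx.exists_descend_fp hS (IsAlgSpace.yon_obj U) hX τ p hfp
  have hπ : ∀ i, IsAffineMor (τ.π.app i) := (isAlgSpace_limit_and_affine τ.affine τ.isLimit τ.alg).2
  have hsq₀ : IsPullback (τ.π.app i) (𝟙 X) (𝟙 (τ.D.obj i)) (τ.π.app i) := IsPullback.of_id_snd
  obtain ⟨j₁, φ₁, h₁⟩ := S10013.result S τ.D τ.alg τ.affine (Cone.mk X τ.π) τ.isLimit i (τ.qc i) (τ.qs i)
    ⟨Z, hZ⟩ ⟨τ.D.obj i, τ.alg i⟩ f₀ (𝟙 _) hZc hZs (τ.qc i) (τ.qs i) ((yon S).obj U) X p (τ.π.app i) (𝟙 X)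
    hsq₀ pX sq (NormSp.isEtaleMor_of_repWith hpe) hf₀.1
  obtain ⟨j₂, φ₂, h₂⟩ := S10015.result S τ.D τ.alg τ.affine (Cone.mk X τ.π) τ.isLimit i (τ.qc i) (τ.qs i)
    ⟨Z, hZ⟩ ⟨τ.D.obj i, τ.alg i⟩ f₀ (𝟙 _) hZc hZs (τ.qc i) (τ.qs i) ((yon S).obj U) X p (τ.π.app i) (𝟙 X)
    hsq₀ pX sq (surjective_map_of_repWith le_rfl hps) hf₀.1
  let E : Over i ⥤ Sp S :=
    { obj := fun l => pullback f₀ (τ.D.map l.hom)
      map := fun {l l'} u => pullback.map _ _ _ _ (𝟙 Z) (τ.D.map u.left) (𝟙 _) (by simp)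
        (by rw [Category.comp_id, ← Functor.map_comp, Over.w])
      map_id := fun l => by apply pullback.hom_ext <;> simp
      map_comp := fun u v => by apply pullback.hom_ext <;> simp }
  let α : E ⟶ Over.forget i ⋙ τ.D :=
    { app := fun l => pullback.snd _ _
      naturality := fun l l' u => pullback.lift_snd _ _ _ }
  have hπl : ∀ l : Over i, τ.π.app l.left ≫ τ.D.map l.hom = τ.π.app i := fun l =>
    (τ.π.naturality l.hom).symm.trans (Category.id_comp _)
  have hEsq : ∀ l : Over i, IsPullback (pullback.fst f₀ (τ.D.map l.hom)) (α.app l) f₀ (τ.D.map l.hom) :=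
    fun l => IsPullback.of_hasPullback _ _
  have hEm : ∀ {l l' : Over i} (u : l ⟶ l'), IsPullback (E.map u) (α.app l) (α.app l') (τ.D.map u.left) :=
    fun {l l'} u => by
      refine IsPullback.of_right ?_ (α.naturality u) (hEsq l')
      rw [← Functor.map_comp, Over.w, show E.map u ≫ pullback.fst f₀ (τ.D.map l'.hom) = pullback.fst f₀ (τ.D.map l.hom)
        from (pullback.lift_fst _ _ _).trans (Category.comp_id _)]
      exact hEsq l
  let cE : Cone E :=
    { pt := (yon S).obj U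
      π := { app := fun l => pullback.lift pX (p ≫ τ.π.app l.left) (by rw [Category.assoc, hπl, sq.w])
             naturality := fun l l' u => by
               refine (Category.id_comp _).trans (pullback.hom_ext ?_ ?_)
               · simp [E]
               · simp only [E, Category.assoc, pullback.lift_snd, pullback.lift_snd_assoc]
                 exact congrArg (p ≫ ·) ((Category.id_comp _).symm.trans (τ.π.naturality u.left)) } }
  have hcE : ∀ l, IsPullback (cE.π.app l) p (α.app l) (τ.π.app l.left) := fun l => by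
    refine IsPullback.of_right ?_ (pullback.lift_snd _ _ _) (hEsq l)
    rw [hπl, show cE.π.app l ≫ pullback.fst f₀ (τ.D.map l.hom) = pX from pullback.lift_fst _ _ _]
    exact sq
  let cY : Cone (Over.forget i ⋙ τ.D) := (Cone.mk X τ.π).whisker (Over.forget i)
  have hcY : IsLimit cY := (Functor.Initial.isLimitWhiskerEquiv (Over.forget i) _).symm τ.isLimit
  have hlim : IsLimit cE := isLimitOfIsPullbackOfIsConnected α cE cY { hom := p, w := fun l => (hcE l).w.symm } hcE hcY
  have hEa : ∀ l, IsAlgSpace (E.obj l) := fun l => isAlgSpace_pullback (τ.alg i).diag hZ (τ.alg _) _ _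
  have hEc : ∀ l, IsQuasiCompactSp (E.obj l) := fun l =>
    Approx.isQuasiCompactSp_of_mor (H12AlgSp.isQuasiCompactMor_of_isPullback (hEsq l) hf₀.2.1) (τ.alg _) (τ.qc _)
  have hEs : ∀ l, IsQuasiSeparatedSp (E.obj l) := fun l =>
    isQuasiSeparatedSp_of_mor (NormSp.isQuasiSeparatedMor_of_isPullback (hEsq l) hf₀.2.2) (τ.qs _)
  obtain ⟨l₀, hl₀⟩ := exists_affine_of_affine_limit hEa
    (fun l l' u => isAffineMor_iff.2 (repWith_of_isPullback (hEm u).flip (isAffineMor_iff.1 (τ.affine _ _ u.left))))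
    hlim hEc hEs ‹IsAffine U.left› (Iso.refl _)
  let l₁ : Over i := IsCofiltered.min (Over.mk φ₁) (Over.mk φ₂)
  let l : Over i := IsCofiltered.min l₀ l₁
  obtain ⟨T', hT', ⟨e⟩⟩ := hl₀ l (IsCofiltered.minToLeft _ _)
  let u₁ : l ⟶ Over.mk φ₁ := IsCofiltered.minToRight _ _ ≫ IsCofiltered.minToLeft _ _
  let u₂ : l ⟶ Over.mk φ₂ := IsCofiltered.minToRight _ _ ≫ IsCofiltered.minToRight _ _
  have het₁ : IsEtaleMor (α.app (Over.mk φ₁)) :=
    h₁ _ _ (α.app (Over.mk φ₁)) (τ.D.map φ₁) (𝟙 _) (IsPullback.of_vert_isIso ⟨by simp⟩) _ (hEsq (Over.mk φ₁))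
  have hsurj₂ : IsSurjectiveMor (α.app (Over.mk φ₂)) :=
    h₂ _ _ (α.app (Over.mk φ₂)) (τ.D.map φ₂) (𝟙 _) (IsPullback.of_vert_isIso ⟨by simp⟩) _ (hEsq (Over.mk φ₂))
  haveI := hT'
  let p₀ : (yon S).obj T' ⟶ τ.D.obj l.left := e.hom ≫ α.app l
  have hp₀e : RepWith @Etale p₀ :=
    repWith_of_locP etLocal_etale (τ.alg _) ((τ.alg _).representable_from_yon _)
      (locP_comp etLocal_etale (IsAlgSpace.yon_obj T') (hEa l) (τ.alg _)
        (haveI : MorphismProperty.ContainsIdentities (@Etale : MorphismProperty Scheme.{u}) := ⟨fun _ => inferInstance⟩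
         locP_of_repWith etLocal_etale (repWith_of_isIso (P := @Etale) e.hom))
        (locP_of_isPullback etLocal_etale (hEm u₁) (hEa _) (τ.alg _) (τ.alg _) (locP_etale_of_isEtaleMor het₁)))
  have hp₀s : RepWith @Surjective p₀ := by
    refine repWith_surjective_of_map hp₀e.1 fun y => ?_
    obtain ⟨x, rfl⟩ := Approx.surjective_map_of_isPullback (hEm u₂) hsurj₂ y
    exact ⟨Points.map e.inv x, by rw [← Points.map_comp, Iso.inv_hom_id_assoc]⟩
  obtain ⟨Y₀, g₀, hf, hs, hl, hF⟩ := exists_cover_noetherian hS (τ.alg l.left) (τ.qc _) (τ.qs _)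
    (locP_mono lfp_le_lft (τ.lfp _)) p₀ hp₀e hp₀s
  refine exists_cover_of_isPullback hX (τ.alg l.left) (hπ l.left)
    (u := cE.π.app l ≫ e.inv) ?_ hf hs hl hF
  exact IsPullback.of_iso (hcE l) (Iso.refl _) e.symm (Iso.refl _) (Iso.refl _) (by simp) (by simp)
    (by simp [p₀]) (by simp)

/-- The case of an affine etale cover over any base. -/
theorem exists_cover_affine [QuasiSeparatedSpace S] {X : Sp S} (hX : IsAlgSpace X) (hXc : IsQuasiCompactSp X)
    (hXs : IsQuasiSeparatedSp X) {U : Over S} [IsAffine U.left] (p : (yon S).obj U ⟶ X)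
    (hpe : RepWith @Etale p) (hps : RepWith @Surjective p) :
    ∃ (Y : Over S) (g : (yon S).obj Y ⟶ X), IsFiniteMor g ∧ IsSurjectiveMor g ∧
      LocP @LocallyOfFinitePresentation g ∧ Factors p g := by
  let S₀ : Scheme.{u} := Spec (CommRingCat.of (ULift.{u} ℤ))
  let g : S ⟶ S₀ := specULiftZIsTerminal.from S
  let U' := (Over.map g).obj U
  let p' : (yon S₀).obj U' ⟶ (shr g).obj X := (yonIso g U).inv ≫ (shr g).map p
  haveI : IsAffine U'.left := ‹IsAffine U.left›
  obtain ⟨Y', g', hf, hs, hl, hF⟩ := exists_cover_terminal (S := S₀) specULiftZIsTerminal (isAlgSpace_shr hX)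
    (Approx.isQuasiCompactSp_shr g hXc) (Approx.isQuasiSeparatedSp_shr g hX hXc hXs) p'
    (MorphismProperty.RespectsIso.precomp _ _ _ ((repWith_shr_iff g @Etale p).2 hpe))
    (MorphismProperty.RespectsIso.precomp _ _ _ ((repWith_shr_iff g @Surjective p).2 hps))
  obtain ⟨Y, eY, t, ht⟩ := exists_presentation g'
  let ey : (yon S₀).obj Y' ≅ (shr g).obj ((yon S).obj Y) := (yon S₀).mapIso eY ≪≫ (yonIso g Y).symm
  have hshr : (shr g).map t = ey.inv ≫ g' := by rw [ht]; simp [ey]
  have hfs : RepWith @IsFinite ((shr g).map t) := by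
    rw [hshr]
    exact MorphismProperty.RespectsIso.precomp (RepWith @IsFinite) _ _ (isFiniteMor_iff.1 hf)
  have hls : RepWith @LocallyOfFinitePresentation ((shr g).map t) := by
    rw [hshr]
    exact MorphismProperty.RespectsIso.precomp (RepWith @LocallyOfFinitePresentation) _ _
      (repWith_of_locP etLocal_lfp (isAlgSpace_shr hX) ((isAlgSpace_shr hX).representable_from_yon _) hl)
  have hss : RepWith @Surjective ((shr g).map t) := by
    rw [hshr]
    exact MorphismProperty.RespectsIso.precomp (RepWith @Surjective) _ _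
      (repWith_surjective_of_map ((isAlgSpace_shr hX).representable_from_yon _) hs)
  refine ⟨Y, t, isFiniteMor_iff.2 ((repWith_shr_iff g @IsFinite t).1 hfs),
    surjective_map_of_repWith le_rfl ((repWith_shr_iff g @Surjective t).1 hss),
    locP_of_repWith etLocal_lfp ((repWith_shr_iff g @LocallyOfFinitePresentation t).1 hls), fun y => ?_⟩
  have hinv : eY.inv.left ≫ eY.hom.left = 𝟙 _ := by rw [← Over.comp_left, Iso.inv_hom_id]; rfl
  obtain ⟨V', hyV, k', hk'⟩ := hF (eY.inv.left y)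
  let V : Y.left.Opens := eY.inv.left ⁻¹ᵁ V'
  let r : (Over.map g).obj (Over.mk (V.ι ≫ Y.hom)) ⟶ Over.mk (V'.ι ≫ Y'.hom) :=
    Over.homMk (eY.inv.left ∣_ V') (by
      change (eY.inv.left ∣_ V') ≫ V'.ι ≫ Y'.hom = (V.ι ≫ Y.hom) ≫ g
      rw [morphismRestrict_ι_assoc, Over.w eY.inv, Category.assoc]
      rfl)
  let ι : Over.mk (V.ι ≫ Y.hom) ⟶ Y := Over.homMk V.ι rfl
  have hr : r ≫ Over.homMk V'.ι = (Over.map g).map ι ≫ eY.inv :=
    Over.OverMorphism.ext (morphismRestrict_ι _ _)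
  have hg' : g' = (yon S₀).map eY.hom ≫ (yonIso g Y).inv ≫ (shr g).map t := ht
  have key : (yon S₀).map (r ≫ k') ≫ p' = (yonIso g _).inv ≫ (shr g).map ((yon S).map ι ≫ t) := by
    rw [Functor.map_comp, Category.assoc, hk', ← Category.assoc, ← Functor.map_comp, hr, hg', ← Functor.map_comp_assoc,
      Category.assoc _ eY.inv, Iso.inv_hom_id, Category.comp_id,
      Functor.map_comp (shr g), ← Category.assoc ((yonIso g _).inv), ← Category.assoc]
    congr 1
  have hcan : (r ≫ k') ≫ canS g U = canS g (Over.mk (V.ι ≫ Y.hom)) := (yon S₀).map_injective (by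
    have h := congrArg (· ≫ toBase g X) key
    simp only [p', Category.assoc, toBase_naturality] at h
    rw [← yonIso_toBase U, Iso.inv_hom_id_assoc, ← yonIso_toBase (Over.mk (V.ι ≫ Y.hom)),
      Iso.inv_hom_id_assoc, ← Functor.map_comp] at h
    exact h)
  let k : Over.mk (V.ι ≫ Y.hom) ⟶ U := Over.homMk (r ≫ k').left (congrArg CommaMorphism.left hcan)
  refine ⟨V, hyV, k, (shr g).map_injective ?_⟩
  rw [← cancel_epi (yonIso g (Over.mk (V.ι ≫ Y.hom))).inv, Functor.map_comp, ← Category.assoc]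
  refine Eq.trans ?_ key
  rw [show (yon S₀).map (r ≫ k') = (yon S₀).map ((Over.map g).map k) from
    congrArg _ (Over.OverMorphism.ext rfl)]
  simp only [p', ← Category.assoc]
  congr 1
  rw [Iso.eq_comp_inv, Category.assoc, yonIso_naturality, Iso.inv_hom_id_assoc]

/-- A surjective etale cover of a quasi-compact space has an affine refinement. -/
theorem exists_affine_refinement {X : Sp S} (hXc : IsQuasiCompactSp X) {U : Over S} (p : (yon S).obj U ⟶ X)
    (hpe : RepWith @Etale p) (hps : RepWith @Surjective p) :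
    ∃ (U₁ : Over S) (q : U₁ ⟶ U), IsAffine U₁.left ∧ RepWith @Etale ((yon S).map q ≫ p) ∧
      RepWith @Surjective ((yon S).map q ≫ p) := by
  haveI := compactSpace_points_of_isQuasiCompactSp hXc
  obtain ⟨F, hF⟩ := isCompact_univ.elim_finite_subcover
    (fun A : U.left.affineOpens => Set.range (Points.map ((yon S).map (openIncl U A.1) ≫ p)))
    (fun A => (isOpenMap_map_of_repWith (fun _ _ k (_ : Etale k) => inferInstance)
      (repWith_comp ((repWith_yon_map_iff @Etale _).2 (inferInstanceAs (Etale A.1.ι))) hpe)).isOpen_range)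
    (fun x _ => by
      obtain ⟨z, rfl⟩ := surjective_map_of_repWith le_rfl hps x
      obtain ⟨v, rfl⟩ := (Points.schemeEquiv U).surjective z
      obtain ⟨A, hA⟩ := Opens.mem_iSup.1 ((iSup_affineOpens_eq_top U.left).ge (Set.mem_univ v))
      refine Set.mem_iUnion.2 ⟨A, Points.ofScheme _ ⟨v, hA⟩, ?_⟩
      rw [Points.map_comp]
      exact congrArg (Points.map p) (Points.map_yon_map_apply _ _))
  let G : {A // A ∈ F} → Scheme.{u} := fun A => A.1.1.toScheme
  haveI : ∀ A, IsAffine (G A) := fun A => A.1.2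
  let q₀ : (∐ G) ⟶ U.left := Sigma.desc fun A => A.1.1.ι
  let U₁ : Over S := Over.mk (q₀ ≫ U.hom)
  let q : U₁ ⟶ U := Over.homMk q₀ rfl
  haveI : IsAffine U₁.left := inferInstanceAs (IsAffine (∐ G))
  haveI : Etale q.left := IsZariskiLocalAtSource.sigmaDesc fun A => inferInstanceAs (Etale A.1.1.ι)
  have h1e : RepWith @Etale ((yon S).map q ≫ p) := repWith_comp ((repWith_yon_map_iff _ _).2 ‹_›) hpe
  have h1s : RepWith @Surjective ((yon S).map q ≫ p) := by
    refine repWith_surjective_of_map h1e.1 fun x => ?_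
    obtain ⟨A, hAF, z, hz⟩ := Set.mem_iUnion₂.1 (hF (Set.mem_univ x))
    let ιA : openOver U A.1 ⟶ U₁ := Over.homMk (Sigma.ι G ⟨A, hAF⟩) (by
      change Sigma.ι G ⟨A, hAF⟩ ≫ q₀ ≫ U.hom = _
      rw [← Category.assoc, Sigma.ι_desc]; rfl)
    refine ⟨Points.map ((yon S).map ιA) z, ?_⟩
    rw [← Points.map_comp, ← Category.assoc, ← Functor.map_comp,
      show ιA ≫ q = openIncl U A.1 from Over.OverMorphism.ext (Sigma.ι_desc _ _)]
    exact hz
  exact ⟨U₁, q, inferInstance, h1e, h1s⟩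

/-- A finite surjective cover by a scheme factoring locally through a given etale cover. -/
theorem exists_cover [QuasiSeparatedSpace S] {X : Sp S} (hX : IsAlgSpace X) (hXc : IsQuasiCompactSp X)
    (hXs : IsQuasiSeparatedSp X) {U : Over S} (p : (yon S).obj U ⟶ X)
    (hpe : RepWith @Etale p) (hps : RepWith @Surjective p) :
    ∃ (Y : Over S) (g : (yon S).obj Y ⟶ X), IsFiniteMor g ∧ IsSurjectiveMor g ∧
      IsFinitePresentationMor g ∧ Factors p g := by
  obtain ⟨U₁, q, hU₁, h1e, h1s⟩ := exists_affine_refinement hXc p hpe hps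
  haveI := hU₁
  obtain ⟨Y, g, hf, hs, hl, hFac⟩ := exists_cover_affine hX hXc hXs ((yon S).map q ≫ p) h1e h1s
  refine ⟨Y, g, hf, hs, ⟨hl, isQuasiCompactMor_of_repWith (IsAlgSpace.yon_obj Y) hX
    (repWith_le (fun _ _ k (_ : IsFinite k) => inferInstanceAs (QuasiCompact k)) (isFiniteMor_iff.1 hf)),
    isQuasiSeparatedMor_of_isSeparatedMor (isSeparatedMor_of_repWith
      (repWith_le (fun _ _ k (_ : IsFinite k) => inferInstanceAs (IsSeparated k)) (isFiniteMor_iff.1 hf)))⟩,
    fun y => ?_⟩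
  obtain ⟨V, hV, k, hk⟩ := hFac y
  exact ⟨V, hV, k ≫ q, by rw [Functor.map_comp, Category.assoc, hk]⟩

end Groth.Agent.H12AlgSp.SchemeCover
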