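import Mathlib
import Groth.Agent.H25Constr.Split

/-!
# Finite etale morphisms split etale locally on the base
-/

set_option autoImplicit false
set_option backward.isDefEq.respectTransparency false
set_option linter.style.haveILetI false
universe u

open CategoryTheory CategoryTheory.Limits AlgebraicGeometry TopologicalSpace

namespace Groth.Agent.H12AlgSp.SchemeCover

/-- Over an affine base a finite etale morphism splits into sections etale locally. -/
theorem exists_split_affine {E R : Scheme.{u}} [IsAffine R] (e : E ⟶ R) [IsFinite e] [Etale e] (x : R) :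
    ∃ (T : Scheme.{u}) (_ : IsAffine T) (h : T ⟶ R) (_ : Etale h), x ∈ Set.range h ∧
      ∀ z : ↥(pullback e h), ∃ (s : T ⟶ E) (hs : s ≫ e = 𝟙 T ≫ h) (t : T), pullback.lift s (𝟙 T) hs t = z := by
  haveI : IsAffine E := isAffine_of_isAffineHom e
  letI := e.appTop.hom.toAlgebra
  haveI : Algebra.Etale Γ(R, ⊤) Γ(E, ⊤) :=
    RingHom.etale_algebraMap.1 ((HasRingHomProperty.iff_of_isAffine (P := @Etale)).1 ‹Etale e›)
  haveI : Module.Finite Γ(R, ⊤) Γ(E, ⊤) :=
    RingHom.finite_algebraMap.1 (e.finite_app ⊤ (isAffineOpen_top R))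
  obtain ⟨T, _, _, n, σ, _, hpT, hsplit⟩ :=
    H25Constr.exists_split_sections (R := Γ(R, ⊤)) (A := Γ(E, ⊤)) (R.isoSpec.hom x : PrimeSpectrum Γ(R, ⊤))
  let h : Spec (CommRingCat.of T) ⟶ R := Spec.map (CommRingCat.ofHom (algebraMap Γ(R, ⊤) T)) ≫ R.isoSpec.inv
  haveI he' : Etale (Spec.map (CommRingCat.ofHom (algebraMap Γ(R, ⊤) T))) :=
    (HasRingHomProperty.Spec_iff (P := @Etale)).2 (RingHom.etale_algebraMap.2 ‹_›)
  have eE : e = E.isoSpec.hom ≫ Spec.map e.appTop ≫ R.isoSpec.inv := by
    rw [Scheme.isoSpec_hom_naturality_assoc, Iso.hom_inv_id, Category.comp_id]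
  refine ⟨Spec (CommRingCat.of T), inferInstance, h, inferInstanceAs (Etale (_ ≫ _)), ?_, fun z => ?_⟩
  · obtain ⟨t, ht⟩ := hpT
    refine ⟨t, ?_⟩
    change R.isoSpec.inv (PrimeSpectrum.comap (algebraMap Γ(R, ⊤) T) t) = x
    rw [ht]
    change (R.isoSpec.hom ≫ R.isoSpec.inv) x = x
    rw [Iso.hom_inv_id]; rfl
  · let zb := (pullback e h).fromSpecResidueField z
    obtain ⟨φ, hφ⟩ := Spec.map_surjective (zb ≫ pullback.snd e h)
    obtain ⟨ψ, hψ⟩ := Spec.map_surjective (zb ≫ pullback.fst e h ≫ E.isoSpec.hom)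
    have hc : e.appTop ≫ ψ = CommRingCat.ofHom (algebraMap Γ(R, ⊤) T) ≫ φ := by
      apply Spec.map_injective
      rw [Spec.map_comp, Spec.map_comp, hψ, hφ, Category.assoc, Category.assoc, Category.assoc,
        ← cancel_mono R.isoSpec.inv]
      simp only [Category.assoc]
      rw [← eE, pullback.condition]
    let Ω : Type u := (pullback e h).residueField z
    letI : Algebra Γ(R, ⊤) Ω := (φ.hom.comp (algebraMap Γ(R, ⊤) T)).toAlgebra
    let φa : T →ₐ[Γ(R, ⊤)] Ω := { φ.hom with commutes' := fun _ => rfl }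
    let ψa : Γ(E, ⊤) →ₐ[Γ(R, ⊤)] Ω :=
      { ψ.hom with commutes' := fun r => congr($hc r) }
    obtain ⟨i, hi⟩ := (hsplit Ω φa).2 ψa
    let s : Spec (CommRingCat.of T) ⟶ E := Spec.map (CommRingCat.ofHom (σ i).toRingHom) ≫ E.isoSpec.inv
    have hs : s ≫ e = 𝟙 _ ≫ h := by
      conv_lhs => rw [eE]
      simp only [s, h, Category.assoc, Iso.inv_hom_id_assoc, Category.id_comp]
      rw [← Spec.map_comp_assoc]
      congr 2
      ext r
      exact (σ i).commutes r
    have hz : zb = (zb ≫ pullback.snd e h) ≫ pullback.lift s (𝟙 _) hs := by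
      refine pullback.hom_ext ?_ ?_
      · rw [Category.assoc, Category.assoc, pullback.lift_fst, ← cancel_mono E.isoSpec.hom, Category.assoc, ← hψ,
          ← Category.assoc, ← hφ]
        simp only [s, Category.assoc, Iso.inv_hom_id, Category.comp_id]
        rw [← Spec.map_comp]
        congr 1
        ext a
        exact (DFunLike.congr_fun hi a).symm
      · simp
    let c : Spec ((pullback e h).residueField z) := default
    refine ⟨s, hs, (zb ≫ pullback.snd e h) c, ?_⟩
    calc pullback.lift s (𝟙 _) hs ((zb ≫ pullback.snd e h) c)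
        = ((zb ≫ pullback.snd e h) ≫ pullback.lift s (𝟙 _) hs) c := rfl
      _ = zb c := by rw [← hz]
      _ = z := Set.mem_singleton_iff.1 ((pullback e h).range_fromSpecResidueField z ▸ ⟨c, rfl⟩)

end Groth.Agent.H12AlgSp.SchemeCover
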